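import Cfsg.Agent.H167.EX.Root
import Cfsg.Agent.KFacts.Mult.Chev
import Cfsg.Agent.H512.LinFour.IdealF
import Mathlib
import Cfsg.Agent.FastGrp
import Cfsg.Agent.Prune
set_option linter.all false

section
prune_inst 0x7ffdb8f9bfb8bddfdfff7e7ffedcdffdf9b89fffe6dff9cb7fe061ff2b9f23008dc56bad8de012fe1ef7e21410b87853ff7eefffea6bdc7ffffd5ff45ffbee0ff5f7bd08519488340fb80ff603f07f8e7f3fffffffffffffffffffffffffffbeffbfffffffff

-- part: H167/EX/Cen
section
prune_inst 0x47060044422020000000000300020043600019000600001c860094405c8e70209000120bc001000000aaa1420380008110000500230000000000000011d008000281206b048a00444009e808004000000000000000000000000000000000004000000000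
set_option linter.all false
open scoped Cfsg.Agent.FastGrp

/-!
# Centralisers of `z = ph (hS (-1))` (helper167, S4312, exceptional groups)

* `pow_memL` : `g` commutes with the toral element `t` of prime order `q`: `g ^ q ^ m ∈ MM t ⊔ T`;
* `LC` : the product of `ph (SL₂)` and its centraliser;
* `mem_LC` : an element of odd order commuting with `z` lies in `LC`.
-/

set_option autoImplicit false
set_option linter.unusedSectionVars false

namespace Cfsg.Agent.H167.EX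

open CoxeterSystem Cfsg Cfsg.Lie Cfsg.Lie.ChevalleyDatum
open Cfsg.Agent.ChevalleyStructure Cfsg.Agent.ChevalleyStructure.Elts Cfsg.Agent.ChevalleyStructure.CoxeterGeom
  Cfsg.Agent.ChevalleyStructure.CoxeterGeomTypes Cfsg.Agent.ChevalleyStructure.NPerm
open Cfsg.Agent.Tits.Roots Cfsg.Agent.Tits.Core Cfsg.Agent.Nodes Cfsg.Agent.Nodes.Reps Cfsg.Agent.Nodes.BNOf
  Cfsg.Agent.Nodes.RGDChev Cfsg.Agent.Nodes.Bruhat Cfsg.Agent.Nodes.NormalForm
open Cfsg.Agent.KFacts.RgdField Cfsg.Agent.KFacts.RgdChevCoord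
open Cfsg.Agent.BpExc Cfsg.Agent.BpExc.TorCent Cfsg.Agent.BpExc.TorChev Cfsg.Agent.BpExc.Tow
  Cfsg.Agent.BpExc.TowChev Cfsg.Agent.BpExc.Fr Cfsg.Agent.BpExc.Pair Cfsg.Agent.BpExc.LangFr Cfsg.Agent.GpExc.Field
  Cfsg.Agent.BpExc.TorAll
open Cfsg.Agent.H469.Exc Cfsg.Agent.H469.Exc.SigFr
open Cfsg.Agent.Nodes.RGDFoldSL
open Cfsg.Agent.ChevalleyStructure.SL2Hom (up lo mem_closure_SL2)
open Module

universe u v

variable {D : ChevalleyDatum} {l : ℕ} {M : CoxeterMatrix (Fin l)} (hp : IsType D l M) {k : Type u} [Field k]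

/-! ### centralisers of toral elements of prime order -/

theorem pow_mem_fin {K : Type u} [Field K] [Finite K] (p : ℕ) [Fact p.Prime] [CharP K p] {x : ↥(D.group K)}
    (hx : x ∈ TT D K) {q : ℕ} (hq : q.Prime) (hxq : x ^ q = 1) {g : ↥(D.group K)} (hg : g * x = x * g) :
    ∃ m : ℕ, g ^ q ^ m ∈ MM M.toCoxeterSystem hp.isCartan (XX D l K) (ch hp) x ⊔ TT D K := by
  have := finite_W hp M.toCoxeterSystem
  have R := rgd (K := K) hp M.toCoxeterSystem p
  have C := coords (K := K) hp M.toCoxeterSystem p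
  refine TorCent.exists_pow_mem R C hx (TT_comm hp) (chAdd hp M.toCoxeterSystem p) hq (fun a ha => ?_) ?_ ?_
  · have h1 : ∀ m : ℕ, ch hp a (x ^ m) = ch hp a x ^ m := by
      intro m
      induction m with
      | zero =>
        have h1 := (C.coord a ha).chi_mul (one_mem (TT D K)) (one_mem _)
        rw [mul_one] at h1
        rw [pow_zero, pow_zero]
        exact (mul_eq_left₀ ((C.coord a ha).chi_ne_zero (one_mem _))).1 h1.symm
      | succ m ih => rw [pow_succ, pow_succ, (C.coord a ha).chi_mul (pow_mem hx m) hx, ih]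
    have h2 := h1 q
    rw [hxq] at h2
    rw [← h2]
    have h3 := (C.coord a ha).chi_mul (one_mem (TT D K)) (one_mem _)
    rw [mul_one] at h3
    exact (mul_eq_left₀ ((C.coord a ha).chi_ne_zero (one_mem _))).1 h3.symm
  · rw [GG_top hp M.toCoxeterSystem]
    exact Subgroup.mem_top g
  · exact Subgroup.mem_centralizer_singleton_iff.2 hg

theorem pow_memL (hk : LocFin k) (p : ℕ) [Fact p.Prime] [CharP k p] {t : ↥(D.group k)} (ht : t ∈ TT D k) {q : ℕ}
    (hq : q.Prime) (htq : t ^ q = 1) {g : ↥(D.group k)} (hg : g * t = t * g) :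
    ∃ m : ℕ, g ^ q ^ m ∈ MM M.toCoxeterSystem hp.isCartan (XX D l k) (ch hp) t ⊔ TT D k := by
  obtain ⟨E1, h1⟩ := exists_TT hp hk ht
  obtain ⟨E2, h2⟩ := exists_level hp hk g
  obtain ⟨E, h3, h4⟩ := dir_lev hk E1 E2
  obtain ⟨t', ht', rfl⟩ := h1 E h3
  obtain ⟨g', rfl⟩ := h2 E h4
  have := charP_lev p E.1
  set f := emb hp.inList E.1.subtype with hf
  have hinj : Function.Injective f := emb_injective hp.inList _
  obtain ⟨m, hm⟩ := pow_mem_fin (K := ↥E.1) hp p ht' hq (by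
    apply hinj
    rw [map_pow, map_one]
    exact htq) (g := g') (by
    apply hinj
    rw [map_mul, map_mul]
    exact hg)
  refine ⟨m, ?_⟩
  have h5 : (MM M.toCoxeterSystem hp.isCartan (XX D l ↥E.1) (ch hp) t' ⊔ TT D ↥E.1) ≤
      (MM M.toCoxeterSystem hp.isCartan (XX D l k) (ch hp) (f t') ⊔ TT D k).comap f := by
    refine sup_le (RGD.Sup_le fun a ha => ?_) ?_
    · obtain ⟨s, hs, rfl⟩ := (isRoot_iff hp M.toCoxeterSystem a).1 ha.1
      intro y hy
      refine Subgroup.mem_sup_left (RGD.le_Sup (S := Sx M.toCoxeterSystem hp.isCartan (ch hp) (f t')) ?_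
        (emb_X hp _ M.toCoxeterSystem ha.1 ⟨y, hy, rfl⟩))
      refine ⟨ha.1, ?_⟩
      rw [hf, emb_ch hp _ hs ht', ha.2, map_one]
    · intro y hy
      exact Subgroup.mem_sup_right (emb_T hp _ ⟨y, hy, rfl⟩)
  have h6 := h5 hm
  rw [Subgroup.mem_comap, map_pow] at h6
  exact h6

/-! ### the subgroup `LC` -/

variable {s : ℕ} (hs : s < D.nroots)

include hs in
theorem xs_eq_xc (a : k) : xs hp.inList s a = xc hp (vec D l s) a := Subtype.ext (coe_xc hp hs a).symm

theorem mem_cent {c : ↥(D.group k)} (h1 : ∀ t, c * xs hp.inList s t = xs hp.inList s t * c)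
    (h2 : ∀ t, c * xs hp.inList (D.neg s) t = xs hp.inList (D.neg s) t * c) :
    c ∈ Subgroup.centralizer ((ph hp k hs).range : Set ↥(D.group k)) := by
  rw [Subgroup.mem_centralizer_iff]
  rintro _ ⟨g, rfl⟩
  have h3 : g ∈ (Subgroup.centralizer {c}).comap (ph hp k hs) := by
    refine (Subgroup.closure_le _).2 ?_ (mem_closure_SL2 g)
    rintro _ (⟨t, rfl⟩ | ⟨t, rfl⟩)
    · show ph hp k hs (up t) ∈ Subgroup.centralizer {c}
      rw [ph_up, Subgroup.mem_centralizer_singleton_iff]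
      exact (h1 t).symm
    · show ph hp k hs (lo t) ∈ Subgroup.centralizer {c}
      rw [ph_lo, Subgroup.mem_centralizer_singleton_iff]
      exact (h2 t).symm
  exact Subgroup.mem_centralizer_singleton_iff.1 (Subgroup.mem_comap.1 h3)

/-- `L · C(L)` -/
noncomputable def LC : Subgroup ↥(D.group k) where
  carrier := {g | ∃ A : SL k, ∃ c ∈ Subgroup.centralizer ((ph hp k hs).range : Set ↥(D.group k)), g = ph hp k hs A * c}
  one_mem' := ⟨1, 1, one_mem _, by rw [map_one, one_mul]⟩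
  mul_mem' := by
    rintro _ _ ⟨A, c, hc, rfl⟩ ⟨B, d, hd, rfl⟩
    refine ⟨A * B, c * d, mul_mem hc hd, ?_⟩
    have h1 := Subgroup.mem_centralizer_iff.1 hc _ ⟨B, rfl⟩
    rw [map_mul, mul_assoc, mul_assoc, ← mul_assoc c, ← h1, mul_assoc]
  inv_mem' := by
    rintro _ ⟨A, c, hc, rfl⟩
    refine ⟨A⁻¹, c⁻¹, inv_mem hc, ?_⟩
    have h1 := Subgroup.mem_centralizer_iff.1 (inv_mem hc) _ ⟨A⁻¹, rfl⟩
    rw [mul_inv_rev, ← map_inv, h1]

theorem mem_LC {g : ↥(D.group k)} : g ∈ LC hp (k := k) hs ↔ ∃ A : SL k,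
    ∃ c ∈ Subgroup.centralizer ((ph hp k hs).range : Set ↥(D.group k)), g = ph hp k hs A * c := Iff.rfl

include hs in
theorem ch_neg (p : ℕ) [Fact p.Prime] [CharP k p] (hk : LocFin k) {t : ↥(D.group k)} (ht : t ∈ TT D k) :
    ch hp (vec D l (D.neg s)) t = (ch hp (vec D l s) t)⁻¹ := by
  obtain ⟨φ, h0, hadd, hφ⟩ := chAddL (k := k) hp M.toCoxeterSystem hk p t ht
  have hn := neg_lt hp.inList hs
  rw [hφ _ (isRoot_vec hp M.toCoxeterSystem hs), hφ _ (isRoot_vec hp M.toCoxeterSystem hn), vec_neg hp hs]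
  have h1 := hadd (vec D l s) (-vec D l s)
  rw [add_neg_cancel, h0] at h1
  exact eq_inv_of_mul_eq_one_right h1.symm

include hs in
theorem act_xs {t : ↥(D.group k)} (ht : t ∈ TT D k) (a : k) :
    t * xs hp.inList s a * t⁻¹ = xs hp.inList s (ch hp (vec D l s) t * a) := by
  rw [xs_eq_xc hp hs, xs_eq_xc hp hs]
  exact (act hp hs ht).2 a

include hs in
theorem comm_xs_of_ch {t : ↥(D.group k)} (ht : t ∈ TT D k) (h : ch hp (vec D l s) t = 1) (a : k) :
    t * xs hp.inList s a = xs hp.inList s a * t := by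
  have h1 := act_xs hp hs ht a
  rw [h, one_mul] at h1
  exact mul_inv_eq_iff_eq_mul.1 h1

theorem TT_le_LC [IsAlgClosed k] (p : ℕ) [Fact p.Prime] [CharP k p] (hk : LocFin k) : TT D k ≤ LC hp (k := k) hs := by
  intro t ht
  obtain ⟨μ, hμ⟩ := IsAlgClosed.exists_pow_nat_eq (ch hp (vec D l s) t) (show 0 < 2 by norm_num)
  have h0 := (act hp hs ht).1
  have hμ0 : μ ≠ 0 := by
    rintro rfl
    apply h0
    rw [← hμ, zero_pow (by norm_num)]
  have hh := ph_hS_mem hp (k := k) hs hμ0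
  have hc : (ph hp k hs (hS μ))⁻¹ * t ∈ TT D k := mul_mem (inv_mem hh) ht
  have e1 : ch hp (vec D l s) ((ph hp k hs (hS μ))⁻¹ * t) = 1 := by
    have h2 := ch_mul hp p hk hs hh hc
    rw [mul_inv_cancel_left, ch_ph_hS hp hs p hk hμ0 hs] at h2
    have h3 : HMatDiagAll.expo D s s = 2 := by unfold HMatDiagAll.expo; rw [if_pos rfl]
    rw [h3, ← hμ] at h2
    have h4 : μ ^ (2 : ℤ) = μ ^ 2 := by norm_cast
    rw [h4] at h2
    exact (mul_eq_left₀ (pow_ne_zero 2 hμ0)).1 h2.symm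
  refine (mem_LC hp hs).2 ⟨hS μ, (ph hp k hs (hS μ))⁻¹ * t, mem_cent hp hs (comm_xs_of_ch hp hs hc e1)
    (comm_xs_of_ch hp (neg_lt hp.inList hs) hc ?_), by rw [mul_inv_cancel_left]⟩
  rw [ch_neg hp hs p hk hc, e1, inv_one]

/-! ### good roots -/

/-- the properties of the root used below -/
def good (D : ChevalleyDatum) (s : ℕ) : Bool :=
  decide (s < D.nroots) && two D s && ((List.range D.nroots).all fun r =>
    decide (HMatDiagAll.expo D s r % 2 ≠ 0) || decide (r = s) || decide (r = D.neg s) ||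
      ((D.commTerms s r).isEmpty && (D.commTerms (D.neg s) r).isEmpty)) &&
    ((List.range D.nroots).any fun r => decide (HMatDiagAll.expo D s r = 1))

theorem good_spec (h : good D s = true) : s < D.nroots ∧ two D s = true ∧ (∀ r < D.nroots,
    HMatDiagAll.expo D s r % 2 = 0 → r = s ∨ r = D.neg s ∨
      ((D.commTerms s r).isEmpty = true ∧ (D.commTerms (D.neg s) r).isEmpty = true)) ∧
    ∃ r < D.nroots, HMatDiagAll.expo D s r = 1 := by
  unfold good at h
  rw [Bool.and_eq_true, Bool.and_eq_true, Bool.and_eq_true, decide_eq_true_iff] at h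
  obtain ⟨⟨⟨h1, h2⟩, h3⟩, h4⟩ := h
  refine ⟨h1, h2, fun r hr he => ?_, ?_⟩
  · have h5 := (List.all_eq_true.1 h3) r (List.mem_range.2 hr)
    rw [Bool.or_eq_true, Bool.or_eq_true, Bool.or_eq_true, decide_eq_true_iff, decide_eq_true_iff,
      decide_eq_true_iff, Bool.and_eq_true] at h5
    rcases h5 with ((h5 | h5) | h5) | h5
    · exact absurd he h5
    · exact Or.inl h5
    · exact Or.inr (Or.inl h5)
    · exact Or.inr (Or.inr h5)
  · obtain ⟨r, hr, h5⟩ := List.any_eq_true.1 h4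
    exact ⟨r, List.mem_range.1 hr, of_decide_eq_true h5⟩

include hp hs in
theorem neg_neg_eq : D.neg (D.neg s) = s := by
  have h1 := neg_lt hp.inList hs
  refine vec_inj hp (neg_lt hp.inList h1) hs ?_
  rw [vec_neg hp h1, vec_neg hp hs, _root_.neg_neg]

/-- the element `z` -/
noncomputable def zz : ↥(D.group k) := ph hp k hs (hS (-1))

theorem zz_mem : zz hp (k := k) hs ∈ TT D k := ph_hS_mem hp hs (neg_ne_zero.2 one_ne_zero)

theorem zz_sq : zz hp (k := k) hs ^ 2 = 1 := by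
  unfold zz
  rw [← map_pow, hS_neg_sq, map_one]

theorem expo_even (h2 : (2 : k) ≠ 0) (p : ℕ) [Fact p.Prime] [CharP k p] (hk : LocFin k) {r : ℕ} (hr : r < D.nroots)
    (h : ch hp (vec D l r) (zz hp (k := k) hs) = 1) : HMatDiagAll.expo D s r % 2 = 0 := by
  unfold zz at h
  rw [ch_ph_hS hp hs p hk (neg_ne_zero.2 one_ne_zero) hr] at h
  by_contra hne
  have h1 : HMatDiagAll.expo D s r % 2 = 1 := by omega
  rw [Odd.neg_one_zpow (Int.odd_iff.2 h1)] at h
  apply h2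
  linear_combination -h

theorem X_le_LC (hg : good D s = true) {r : ℕ} (hr : r < D.nroots)
    (h : HMatDiagAll.expo D s r % 2 = 0) : XX D l k (vec D l r) ≤ LC hp (k := k) hs := by
  intro y hy
  obtain ⟨t, ht⟩ := (LangThm.mem_XX_vec hp hr).1 hy
  have hy' : y = xs hp.inList r t := Subtype.ext ht
  subst hy'
  rcases (good_spec hg).2.2.1 r hr h with h3 | h3 | ⟨h3, h4⟩
  · subst h3
    exact (mem_LC hp hs).2 ⟨up t, 1, one_mem _, by rw [ph_up, mul_one]⟩
  · subst h3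
    exact (mem_LC hp hs).2 ⟨lo t, 1, one_mem _, by rw [ph_lo, mul_one]⟩
  · by_cases e1 : r = s
    · subst e1
      exact (mem_LC hp hs).2 ⟨up t, 1, one_mem _, by rw [ph_up, mul_one]⟩
    by_cases e2 : r = D.neg s
    · subst e2
      exact (mem_LC hp hs).2 ⟨lo t, 1, one_mem _, by rw [ph_lo, mul_one]⟩
    refine (mem_LC hp hs).2 ⟨1, _, mem_cent hp hs (fun u => ?_) (fun u => ?_), by rw [map_one, one_mul]⟩
    · exact Subtype.ext (KFacts.Mult.Chev.commute_of_empty hp hs hr e1 e2 h3 u t)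
    · exact Subtype.ext (KFacts.Mult.Chev.commute_of_empty hp (neg_lt hp.inList hs) hr e2
        (by rw [neg_neg_eq hp hs]; exact e1) h4 u t)

/-- **Elements of odd order commuting with `z`.** -/
theorem mem_LC_of_comm [IsAlgClosed k] (h2 : (2 : k) ≠ 0) (p : ℕ) [Fact p.Prime] [CharP k p] (hk : LocFin k)
    (hg : good D s = true) {n : ↥(D.group k)} (hn : n * zz hp (k := k) hs = zz hp (k := k) hs * n) {m : ℕ} (hm : Odd m)
    (hnm : n ^ m = 1) : n ∈ LC hp (k := k) hs := by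
  obtain ⟨j, hj⟩ := pow_memL hp hk p (zz_mem hp hs) Nat.prime_two (zz_sq hp hs) hn
  have h3 : MM M.toCoxeterSystem hp.isCartan (XX D l k) (ch hp) (zz hp (k := k) hs) ⊔ TT D k ≤ LC hp (k := k) hs := by
    refine sup_le (RGD.Sup_le fun a ha => ?_) (TT_le_LC hp hs p hk)
    obtain ⟨r, hr, rfl⟩ := (isRoot_iff hp M.toCoxeterSystem a).1 ha.1
    exact X_le_LC hp hs hg hr (expo_even hp hs h2 p hk hr ha.2)
  have h4 := h3 hj
  have hcop : Nat.Coprime (orderOf n) (2 ^ j) := by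
    refine Nat.Coprime.pow_right j ?_
    refine Nat.Coprime.coprime_dvd_left (orderOf_dvd_of_pow_eq_one hnm) ?_
    exact Nat.coprime_two_right.2 hm
  have h5 : n ∈ Subgroup.zpowers (n ^ 2 ^ j) := mem_zpowers_pow_iff.2 hcop.symm
  exact (Subgroup.zpowers_le.2 h4) h5

end Cfsg.Agent.H167.EX
end

-- part: H167/EX/Fix2
section
prune_inst 0x245024040422000000000000300020447600019000600800082009440d80a70200000120bc901010000aa2944038000811000050420000000a000000011c0080000902043040a000500096000004000000000000000000000000000000000004000000000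
set_option linter.all false
open scoped Cfsg.Agent.FastGrp

-- part: H167/EX/Fix
section
/-!
# Fixed points of Frobenius in `L C(L)` (helper167, S4312, exceptional groups)

* `SL.eq_one` : `A ∈ SL₂(k)`, `A ^ N = 1`, `F A = A`, `N` prime to `p (q ^ 2 - 1)`: `A = 1`;
* `ph_injective`;
* `mem_centralizer_ph` : `n` fixed by `σ`, of order prime to `2 p (q ^ 2 - 1)`, commuting with `z`, centralises `L`.
-/

set_option autoImplicit false
set_option linter.unusedSectionVars false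

namespace Cfsg.Agent.H167.EX

open CoxeterSystem Cfsg Cfsg.Lie Cfsg.Lie.ChevalleyDatum
open Cfsg.Agent.ChevalleyStructure Cfsg.Agent.ChevalleyStructure.Elts Cfsg.Agent.ChevalleyStructure.CoxeterGeom
  Cfsg.Agent.ChevalleyStructure.CoxeterGeomTypes Cfsg.Agent.ChevalleyStructure.NPerm
open Cfsg.Agent.Tits.Roots Cfsg.Agent.Tits.Core Cfsg.Agent.Nodes Cfsg.Agent.Nodes.Reps Cfsg.Agent.Nodes.BNOf
  Cfsg.Agent.Nodes.RGDChev Cfsg.Agent.Nodes.Bruhat Cfsg.Agent.Nodes.NormalForm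
open Cfsg.Agent.KFacts.RgdField Cfsg.Agent.KFacts.RgdChevCoord
open Cfsg.Agent.BpExc Cfsg.Agent.BpExc.TorCent Cfsg.Agent.BpExc.TorChev Cfsg.Agent.BpExc.Tow
  Cfsg.Agent.BpExc.TowChev Cfsg.Agent.BpExc.Fr Cfsg.Agent.BpExc.Pair Cfsg.Agent.BpExc.LangFr Cfsg.Agent.GpExc.Field
  Cfsg.Agent.BpExc.TorAll
open Cfsg.Agent.H469.Exc Cfsg.Agent.H469.Exc.SigFr
open Cfsg.Agent.Nodes.RGDFoldSL
open Cfsg.Agent.ChevalleyStructure.SL2Hom (up lo mem_closure_SL2)
open Module

universe u v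

section SLfacts

variable {k : Type u} [Field k]

theorem sl_ext {A B : SL k} (h1 : A.1 0 0 = B.1 0 0) (h2 : A.1 0 1 = B.1 0 1) (h3 : A.1 1 0 = B.1 1 0)
    (h4 : A.1 1 1 = B.1 1 1) : A = B := by
  apply Subtype.ext
  ext a b
  fin_cases a <;> fin_cases b <;> assumption

theorem det_eq (A : SL k) : A.1 0 0 * A.1 1 1 - A.1 0 1 * A.1 1 0 = 1 := by
  have h1 := A.2
  rwa [Matrix.det_fin_two] at h1

theorem mul00 (A B : SL k) : (A * B).1 0 0 = A.1 0 0 * B.1 0 0 + A.1 0 1 * B.1 1 0 := by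
  show (A.1 * B.1) 0 0 = _
  rw [Matrix.mul_apply, Fin.sum_univ_two]

theorem mul01 (A B : SL k) : (A * B).1 0 1 = A.1 0 0 * B.1 0 1 + A.1 0 1 * B.1 1 1 := by
  show (A.1 * B.1) 0 1 = _
  rw [Matrix.mul_apply, Fin.sum_univ_two]

theorem mul10 (A B : SL k) : (A * B).1 1 0 = A.1 1 0 * B.1 0 0 + A.1 1 1 * B.1 1 0 := by
  show (A.1 * B.1) 1 0 = _
  rw [Matrix.mul_apply, Fin.sum_univ_two]

theorem mul11 (A B : SL k) : (A * B).1 1 1 = A.1 1 0 * B.1 0 1 + A.1 1 1 * B.1 1 1 := by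
  show (A.1 * B.1) 1 1 = _
  rw [Matrix.mul_apply, Fin.sum_univ_two]

theorem inv00 (A : SL k) : (A⁻¹).1 0 0 = A.1 1 1 := by
  rw [Matrix.SpecialLinearGroup.coe_inv, Matrix.adjugate_fin_two]; rfl

theorem inv01 (A : SL k) : (A⁻¹).1 0 1 = -A.1 0 1 := by
  rw [Matrix.SpecialLinearGroup.coe_inv, Matrix.adjugate_fin_two]; rfl

theorem inv10 (A : SL k) : (A⁻¹).1 1 0 = -A.1 1 0 := by
  rw [Matrix.SpecialLinearGroup.coe_inv, Matrix.adjugate_fin_two]; rfl

theorem inv11 (A : SL k) : (A⁻¹).1 1 1 = A.1 0 0 := by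
  rw [Matrix.SpecialLinearGroup.coe_inv, Matrix.adjugate_fin_two]; rfl

theorem low (A P : SL k) : (P⁻¹ * A * P).1 1 0 = P.1 0 0 * (A.1 1 0 * P.1 0 0 + A.1 1 1 * P.1 1 0) -
    P.1 1 0 * (A.1 0 0 * P.1 0 0 + A.1 0 1 * P.1 1 0) := by
  rw [mul10, mul10, mul11, inv10, inv11]
  ring

theorem up_entries (t : k) : (up t : SL k).1 0 0 = 1 ∧ (up t : SL k).1 0 1 = t ∧ (up t : SL k).1 1 0 = 0 ∧
    (up t : SL k).1 1 1 = 1 := ⟨rfl, rfl, rfl, rfl⟩

theorem lo_entries (t : k) : (lo t : SL k).1 0 0 = 1 ∧ (lo t : SL k).1 0 1 = 0 ∧ (lo t : SL k).1 1 0 = t ∧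
    (lo t : SL k).1 1 1 = 1 := ⟨rfl, rfl, rfl, rfl⟩

theorem wS_entries {t : k} (ht : t ≠ 0) : (wS t : SL k).1 0 0 = 0 ∧ (wS t : SL k).1 0 1 = t ∧
    (wS t : SL k).1 1 0 = -t⁻¹ ∧ (wS t : SL k).1 1 1 = 0 := by
  have h := coe_wS ht
  refine ⟨?_, ?_, ?_, ?_⟩ <;> rw [h] <;> rfl

theorem hS_entries {t : k} (ht : t ≠ 0) : (hS t : SL k).1 0 0 = t ∧ (hS t : SL k).1 0 1 = 0 ∧
    (hS t : SL k).1 1 0 = 0 ∧ (hS t : SL k).1 1 1 = t⁻¹ := by
  have h := coe_hS ht
  refine ⟨?_, ?_, ?_, ?_⟩ <;> rw [h] <;> rfl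

/-- every element of `SL₂(k)` is conjugate to an upper triangular one -/
theorem exists_tri [IsAlgClosed k] (h2 : (2 : k) ≠ 0) (A : SL k) : ∃ P : SL k, (P⁻¹ * A * P).1 1 0 = 0 := by
  by_cases hb : A.1 0 1 = 0
  · obtain ⟨w1, w2, w3, w4⟩ := wS_entries (one_ne_zero (α := k))
    refine ⟨wS 1, ?_⟩
    rw [low, w1, w3, hb]
    ring
  · obtain ⟨ρ, hρ⟩ := IsAlgClosed.exists_pow_nat_eq ((A.1 0 0 - A.1 1 1) ^ 2 + 4 * A.1 0 1 * A.1 1 0)
      (show 0 < 2 by norm_num)
    obtain ⟨w1, w2, w3, w4⟩ := lo_entries ((A.1 1 1 - A.1 0 0 + ρ) / (2 * A.1 0 1))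
    refine ⟨lo ((A.1 1 1 - A.1 0 0 + ρ) / (2 * A.1 0 1)), ?_⟩
    rw [low, w1, w3]
    field_simp
    linear_combination -hρ

theorem tri_eq {B : SL k} (h : B.1 1 0 = 0) : B.1 0 0 ≠ 0 ∧ B = hS (B.1 0 0) * up ((B.1 0 0)⁻¹ * B.1 0 1) := by
  have hd := det_eq B
  rw [h, mul_zero, sub_zero] at hd
  have h0 : B.1 0 0 ≠ 0 := left_ne_zero_of_mul_eq_one hd
  obtain ⟨w1, w2, w3, w4⟩ := hS_entries h0
  obtain ⟨u1, u2, u3, u4⟩ := up_entries ((B.1 0 0)⁻¹ * B.1 0 1)
  refine ⟨h0, sl_ext ?_ ?_ ?_ ?_⟩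
  · rw [mul00, w1, w2, u1, u3]; ring
  · rw [mul01, w1, w2, u2, u4]; field_simp; ring
  · rw [mul10, w3, w4, u1, u3, h]; ring
  · rw [mul11, w3, w4, u2, u4]
    rw [zero_mul, zero_add, mul_one]
    exact eq_inv_of_mul_eq_one_right hd

/-- upper triangular matrices: the diagonal entries multiply -/
theorem tri_pow {B : SL k} (h : B.1 1 0 = 0) (n : ℕ) : (B ^ n).1 1 0 = 0 ∧ (B ^ n).1 0 0 = B.1 0 0 ^ n := by
  induction n with
  | zero =>
    rw [pow_zero, pow_zero]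
    exact ⟨rfl, rfl⟩
  | succ n ih =>
    rw [pow_succ, mul10, mul00, ih.1, ih.2, h]
    constructor
    · ring
    · rw [pow_succ]; ring

theorem up_add (t u : k) : (up t * up u : SL k) = up (t + u) := by
  obtain ⟨u1, u2, u3, u4⟩ := up_entries t
  obtain ⟨v1, v2, v3, v4⟩ := up_entries u
  obtain ⟨w1, w2, w3, w4⟩ := up_entries (t + u)
  refine sl_ext ?_ ?_ ?_ ?_
  · rw [mul00, u1, u2, v1, v3, w1]; ring
  · rw [mul01, u1, u2, v2, v4, w2]; ring
  · rw [mul10, u3, u4, v1, v3, w3]; ring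
  · rw [mul11, u3, u4, v2, v4, w4]; ring

theorem up_zero : (up 0 : SL k) = 1 := by
  apply Subtype.ext
  ext a b
  (revert a b; simp only [up, _root_.Fin.forall_fin_succ, _root_.Matrix.of_apply, _root_.Matrix.cons_val', _root_.Matrix.cons_val_fin_one, _root_.Matrix.SpecialLinearGroup.coe_one, Fin.isValue, _root_.Matrix.cons_val_zero, _root_.Matrix.cons_val_succ, _root_.IsEmpty.forall_iff, _root_.and_true, _root_.Matrix.one_apply_eq, Nat.reduceAdd, _root_.Fin.succ_zero_eq_one, _root_.ne_eq, _root_.zero_ne_one, _root_.not_false_eq_true, _root_.Matrix.one_apply_ne, _root_.and_self, _root_.Fin.succ_ne_zero, _root_.true_and])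

theorem up_pow (t : k) (n : ℕ) : (up t : SL k) ^ n = up ((n : k) * t) := by
  induction n with
  | zero => rw [pow_zero, Nat.cast_zero, zero_mul, up_zero]
  | succ n ih => rw [pow_succ, ih, up_add, Nat.cast_succ]; congr 1; ring

/-- the twisted Frobenius map -/
def Fm0 (φ : k →+* k) {c : k} (hc : c ≠ 0) (A : SL k) : SL k :=
  ⟨!![φ (A.1 0 0), c * φ (A.1 0 1); c⁻¹ * φ (A.1 1 0), φ (A.1 1 1)], by
    rw [Matrix.det_fin_two_of]
    have h := congrArg φ (det_eq A)
    rw [map_sub, map_mul, map_mul, map_one] at h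
    field_simp
    linear_combination h⟩

/-- the twisted Frobenius map -/
def Fm (φ : k →+* k) {c : k} (hc : c ≠ 0) : SL k →* SL k where
  toFun := Fm0 φ hc
  map_one' := by
    refine sl_ext ?_ ?_ ?_ ?_
    · show φ 1 = 1; rw [map_one]
    · show c * φ 0 = 0; rw [map_zero, mul_zero]
    · show c⁻¹ * φ 0 = 0; rw [map_zero, mul_zero]
    · show φ 1 = 1; rw [map_one]
  map_mul' A B := by
    refine sl_ext ?_ ?_ ?_ ?_
    · refine Eq.trans ?_ (mul00 (Fm0 φ hc A) (Fm0 φ hc B)).symm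
      show φ ((A * B).1 0 0) = φ (A.1 0 0) * φ (B.1 0 0) + c * φ (A.1 0 1) * (c⁻¹ * φ (B.1 1 0))
      rw [mul00, map_add, map_mul, map_mul]
      field_simp
    · refine Eq.trans ?_ (mul01 (Fm0 φ hc A) (Fm0 φ hc B)).symm
      show c * φ ((A * B).1 0 1) = φ (A.1 0 0) * (c * φ (B.1 0 1)) + c * φ (A.1 0 1) * φ (B.1 1 1)
      rw [mul01, map_add, map_mul, map_mul]
      ring
    · refine Eq.trans ?_ (mul10 (Fm0 φ hc A) (Fm0 φ hc B)).symm
      show c⁻¹ * φ ((A * B).1 1 0) = c⁻¹ * φ (A.1 1 0) * φ (B.1 0 0) + φ (A.1 1 1) * (c⁻¹ * φ (B.1 1 0))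
      rw [mul10, map_add, map_mul, map_mul]
      ring
    · refine Eq.trans ?_ (mul11 (Fm0 φ hc A) (Fm0 φ hc B)).symm
      show φ ((A * B).1 1 1) = c⁻¹ * φ (A.1 1 0) * (c * φ (B.1 0 1)) + φ (A.1 1 1) * φ (B.1 1 1)
      rw [mul11, map_add, map_mul, map_mul]
      field_simp

theorem tr_conj (P B : SL k) : (P * B * P⁻¹).1 0 0 + (P * B * P⁻¹).1 1 1 = B.1 0 0 + B.1 1 1 := by
  have h4 := det_eq P
  rw [mul00 (P * B) P⁻¹, mul11 (P * B) P⁻¹, mul00 P B, mul01 P B, mul10 P B, mul11 P B, inv00, inv01, inv10, inv11]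
  linear_combination (B.1 0 0 + B.1 1 1) * h4

end SLfacts

end Cfsg.Agent.H167.EX
end

-- part: H167/EX/Fix2
section
/-!
# Fixed points of Frobenius in `L C(L)`, second part (helper167, S4312, exceptional groups)
-/

set_option autoImplicit false
set_option linter.unusedSectionVars false

namespace Cfsg.Agent.H167.EX

open CoxeterSystem Cfsg Cfsg.Lie Cfsg.Lie.ChevalleyDatum
open Cfsg.Agent.ChevalleyStructure Cfsg.Agent.ChevalleyStructure.Elts Cfsg.Agent.ChevalleyStructure.CoxeterGeom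
  Cfsg.Agent.ChevalleyStructure.CoxeterGeomTypes Cfsg.Agent.ChevalleyStructure.NPerm
open Cfsg.Agent.Tits.Roots Cfsg.Agent.Tits.Core Cfsg.Agent.Nodes Cfsg.Agent.Nodes.Reps Cfsg.Agent.Nodes.BNOf
  Cfsg.Agent.Nodes.RGDChev Cfsg.Agent.Nodes.Bruhat Cfsg.Agent.Nodes.NormalForm
open Cfsg.Agent.KFacts.RgdField Cfsg.Agent.KFacts.RgdChevCoord
open Cfsg.Agent.BpExc Cfsg.Agent.BpExc.TorCent Cfsg.Agent.BpExc.TorChev Cfsg.Agent.BpExc.Tow
  Cfsg.Agent.BpExc.TowChev Cfsg.Agent.BpExc.Fr Cfsg.Agent.BpExc.Pair Cfsg.Agent.BpExc.LangFr Cfsg.Agent.GpExc.Field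
  Cfsg.Agent.BpExc.TorAll
open Cfsg.Agent.H469.Exc Cfsg.Agent.H469.Exc.SigFr
open Cfsg.Agent.Nodes.RGDFoldSL
open Cfsg.Agent.ChevalleyStructure.SL2Hom (up lo mem_closure_SL2)
open Module

universe u v

variable {D : ChevalleyDatum} {l : ℕ} {M : CoxeterMatrix (Fin l)} (hp : IsType D l M) {k : Type u} [Field k]
  {s : ℕ} (hs : s < D.nroots)

include hp hs in
/-- a root element in the torus is trivial -/
theorem xs_TT (p : ℕ) [Fact p.Prime] [CharP k p] (hk : LocFin k) {t : k} (h : xs hp.inList s t ∈ TT D k) : t = 0 := by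
  have h1 := H892.El.coe_TT hp (r := p) hk h
  rw [coe_xs, coe_xG, x_of_lt hs] at h1
  have hn := neg_lt hp.inList hs
  have hne := neg_ne hp.inList hs
  have h2 := congrFun (congrFun h1 (Sum.inr ⟨s, hs⟩)) (Sum.inr ⟨D.neg s, hn⟩)
  rw [Matrix.diagonal_apply_ne _ (fun e => hne (congrArg Fin.val (Sum.inr.inj e)).symm)] at h2
  unfold ChevalleyDatum.xMat at h2
  rw [Matrix.of_apply] at h2
  have e1 : (⟨D.neg s, hn⟩ : Fin D.nroots) ≠ ⟨s, hs⟩ := fun e => hne (congrArg Fin.val e)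
  have e2 : D.neg s = D.negIdx.getD s 0 := rfl
  have e3 : ¬ s = D.negIdx.getD s 0 := fun e => hne e.symm
  have e4 : ¬ D.negIdx.getD s 0 = s := fun e => hne e
  rw [Array.getD_eq_getD_getElem?] at e3 e4
  simp only [e2, if_true] at h2
  simpa only [e3, e4, _root_.Array.getD_eq_getD_getElem?, _root_.Fin.mk.injEq, ↓ _root_.reduceIte, _root_.neg_eq_zero, _root_.ne_eq, _root_.OfNat.ofNat_ne_zero, _root_.not_false_eq_true, _root_.pow_eq_zero_iff] using h2

/-- `ph` is injective -/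
theorem ph_injective [IsAlgClosed k] (h2 : (2 : k) ≠ 0) (p : ℕ) [Fact p.Prime] [CharP k p] (hk : LocFin k)
    (hg : good D s = true) {A : SL k} (hA : ph hp k hs A = 1) : A = 1 := by
  obtain ⟨P, hP⟩ := exists_tri h2 A
  have hB : ph hp k hs (P⁻¹ * A * P) = 1 := by
    rw [map_mul, map_mul, hA, mul_one, ← map_mul, inv_mul_cancel, map_one]
  obtain ⟨h0, hB1⟩ := tri_eq hP
  set x := (P⁻¹ * A * P).1 0 0 with hx
  set y := (x)⁻¹ * (P⁻¹ * A * P).1 0 1 with hy
  rw [hB1, map_mul, ph_up] at hB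
  have hy0 : y = 0 := by
    refine xs_TT hp hs p hk ?_
    rw [eq_inv_of_mul_eq_one_right hB]
    exact inv_mem (ph_hS_mem hp hs h0)
  rw [hy0] at hB hB1
  obtain ⟨r, hr, he⟩ := (good_spec hg).2.2.2
  have hx1 : x = 1 := by
    have h3 : xs hp.inList s (0 : k) = 1 := by rw [← ph_up hp hs, up_zero, map_one]
    rw [h3, mul_one] at hB
    have h4 := ch_ph_hS hp hs p hk h0 hr
    rw [hB, ch_one hp p hk hr, he, zpow_one] at h4
    exact h4.symm
  have h5 : P⁻¹ * A * P = 1 := by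
    rw [hB1, hx1, up_zero, mul_one]
    apply Subtype.ext
    rw [coe_hS one_ne_zero]
    ext a b
    (revert a b; simp only [_root_.Fin.forall_fin_succ, _root_.inv_one, _root_.Matrix.of_apply, _root_.Matrix.cons_val', _root_.Matrix.cons_val_fin_one, _root_.Matrix.SpecialLinearGroup.coe_one, Fin.isValue, _root_.Matrix.cons_val_zero, _root_.Matrix.cons_val_succ, _root_.IsEmpty.forall_iff, _root_.and_true, _root_.Matrix.one_apply_eq, Nat.reduceAdd, _root_.Fin.succ_zero_eq_one, _root_.ne_eq, _root_.zero_ne_one, _root_.not_false_eq_true, _root_.Matrix.one_apply_ne, _root_.and_self, _root_.Fin.succ_ne_zero, _root_.true_and])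
  have h6 : A = P * (P⁻¹ * A * P) * P⁻¹ := by group
  rw [h6, h5, mul_one, mul_inv_cancel]

/-- an element of `SL₂` commuting with `up 1` and `lo 1` has square one -/
theorem sq_of_comm {A : SL k} (h1 : A * up 1 = up 1 * A) (h2 : A * lo 1 = lo 1 * A) : A ^ 2 = 1 := by
  obtain ⟨u1, u2, u3, u4⟩ := up_entries (1 : k)
  obtain ⟨v1, v2, v3, v4⟩ := lo_entries (1 : k)
  have e1 : (A * up 1).1 0 0 = (up 1 * A).1 0 0 := by rw [h1]
  have e2 : (A * up 1).1 0 1 = (up 1 * A).1 0 1 := by rw [h1]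
  have e3 : (A * lo 1).1 0 0 = (lo 1 * A).1 0 0 := by rw [h2]
  rw [mul00, mul00, u1, u2, u3] at e1
  rw [mul01, mul01, u1, u2, u4] at e2
  rw [mul00, mul00, v1, v2, v3] at e3
  have f1 : A.1 1 0 = 0 := by linear_combination -e1
  have f2 : A.1 0 1 = 0 := by linear_combination e3
  have f3 : A.1 0 0 = A.1 1 1 := by linear_combination e2
  have hd := det_eq A
  rw [f1, f2, ← f3] at hd
  rw [pow_two]
  refine sl_ext ?_ ?_ ?_ ?_
  · rw [mul00, f1, f2]
    show _ = (1 : k)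
    linear_combination hd
  · rw [mul01, f2]
    show _ = (0 : k)
    ring
  · rw [mul10, f1]
    show _ = (0 : k)
    ring
  · rw [mul11, f1, f2, ← f3]
    show _ = (1 : k)
    linear_combination hd

end Cfsg.Agent.H167.EX
end
end

-- part: H971/RV/Lie
section
prune_inst 0x1040000422000000000000000000203000000000400800800000000180000009000020200000100000000000000000000000000000000000000000000400000000000080080000000000000000000000000000000000000000000000000000000000000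
set_option linter.all false
open scoped Cfsg.Agent.FastGrp

-- part: H167/EX/Frame
section
/-!
# Frames of orthogonal roots (helper167, S4312, exceptional groups)

* `mem_TT_of_frame` : an element of finite order which centralises `L_s` for all `s` in a frame is in the torus;
* `TT_fix` : a `σ`-fixed element of the torus has order dividing `q ^ 2 - 1`.
-/

set_option autoImplicit false
set_option linter.unusedSectionVars false

namespace Cfsg.Agent.H167.EX

open CoxeterSystem Cfsg Cfsg.Lie Cfsg.Lie.ChevalleyDatum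
open Cfsg.Agent.ChevalleyStructure Cfsg.Agent.ChevalleyStructure.Elts Cfsg.Agent.ChevalleyStructure.CoxeterGeom
  Cfsg.Agent.ChevalleyStructure.CoxeterGeomTypes Cfsg.Agent.ChevalleyStructure.NPerm
open Cfsg.Agent.Tits.Roots Cfsg.Agent.Tits.Core Cfsg.Agent.Nodes Cfsg.Agent.Nodes.Reps Cfsg.Agent.Nodes.BNOf
  Cfsg.Agent.Nodes.RGDChev Cfsg.Agent.Nodes.Bruhat Cfsg.Agent.Nodes.NormalForm
open Cfsg.Agent.KFacts.RgdField Cfsg.Agent.KFacts.RgdChevCoord
open Cfsg.Agent.BpExc Cfsg.Agent.BpExc.TorCent Cfsg.Agent.BpExc.TorChev Cfsg.Agent.BpExc.Tow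
  Cfsg.Agent.BpExc.TowChev Cfsg.Agent.BpExc.Fr Cfsg.Agent.BpExc.Pair Cfsg.Agent.BpExc.LangFr Cfsg.Agent.GpExc.Field
  Cfsg.Agent.BpExc.TorAll
open Cfsg.Agent.H469.Exc Cfsg.Agent.H469.Exc.SigFr
open Cfsg.Agent.Nodes.RGDFoldSL
open Cfsg.Agent.ChevalleyStructure.SL2Hom (up lo mem_closure_SL2)
open Module

universe u v

variable {D : ChevalleyDatum} {l : ℕ} {M : CoxeterMatrix (Fin l)} (hp : IsType D l M) {k : Type u} [Field k]

/-- a generic combination of the pairings with the roots of the frame -/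
def gl (D : ChevalleyDatum) : List ℕ → ℕ → ℤ
  | [], _ => 0
  | s :: L, r => HMatDiagAll.expo D s r + 5 * gl D L r

theorem exists_te (p : ℕ) [Fact p.Prime] [CharP k p] (hk : LocFin k) (L : List ℕ) (hL : ∀ s ∈ L, s < D.nroots) :
    ∀ ζ : k, ζ ≠ 0 → ∃ t ∈ TT D k, (∀ r < D.nroots, ch hp (vec D l r) t = ζ ^ gl D L r) ∧
      ∀ n : ↥(D.group k), (∀ s (h : s ∈ L), n ∈ Subgroup.centralizer
        ((ph hp k (hL s h)).range : Set ↥(D.group k))) → n * t = t * n := by
  induction L with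
  | nil =>
    intro ζ _
    refine ⟨1, one_mem _, fun r hr => ?_, fun n _ => by rw [one_mul, mul_one]⟩
    rw [ch_one hp p hk hr]
    show _ = ζ ^ (0 : ℤ)
    rw [zpow_zero]
  | cons s L ih =>
    intro ζ hζ
    obtain ⟨t, ht, h1, h2⟩ := ih (fun s' h => hL s' (List.mem_cons_of_mem _ h)) (ζ ^ 5) (pow_ne_zero 5 hζ)
    have hs : s < D.nroots := hL s List.mem_cons_self
    have hm := ph_hS_mem hp (k := k) hs hζ
    refine ⟨ph hp k hs (hS ζ) * t, mul_mem hm ht, fun r hr => ?_, fun n hn => ?_⟩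
    · rw [ch_mul hp p hk hr hm ht, ch_ph_hS hp hs p hk hζ hr, h1 r hr]
      show _ = ζ ^ (HMatDiagAll.expo D s r + 5 * gl D L r)
      rw [zpow_add₀ hζ, zpow_mul]
      have h3 : ζ ^ (5 : ℤ) = ζ ^ 5 := by norm_cast
      rw [h3]
    · have h3 := Subgroup.mem_centralizer_iff.1 (hn s List.mem_cons_self) (ph hp k hs (hS ζ)) ⟨_, rfl⟩
      have h4 := h2 n fun s' h => hn s' (List.mem_cons_of_mem _ h)
      rw [← mul_assoc, ← h3, mul_assoc, h4, ← mul_assoc]

/-- **Elements centralising all `L_s`, `s` in the frame, are in the torus.** -/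
theorem mem_TT_of_frame [IsAlgClosed k] (p : ℕ) [Fact p.Prime] [CharP k p] (hk : LocFin k) (L : List ℕ)
    (hL : ∀ s ∈ L, s < D.nroots) (hgl : ∀ r < D.nroots, gl D L r ≠ 0) {n : ↥(D.group k)}
    (hn : ∀ s (h : s ∈ L), n ∈ Subgroup.centralizer ((ph hp k (hL s h)).range : Set ↥(D.group k)))
    {N : ℕ} (hN0 : N ≠ 0) (hN : n ^ N = 1) : n ∈ TT D k := by
  -- a large prime
  obtain ⟨q, hqb, hq⟩ := Nat.exists_infinite_primes
    (N + p + (∑ r ∈ Finset.range D.nroots, (gl D L r).natAbs) + 1)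
  have hqp : q ≠ p := by omega
  have hqk : (q : k) ≠ 0 := by
    intro h
    rw [CharP.cast_eq_zero_iff k p] at h
    exact hqp ((Nat.prime_dvd_prime_iff_eq (Fact.out : p.Prime) hq).1 h).symm
  have : NeZero (q : k) := ⟨hqk⟩
  have : NeZero q := ⟨hq.ne_zero⟩
  obtain ⟨ζ, hζ⟩ := HasEnoughRootsOfUnity.exists_primitiveRoot k q
  have hζ0 : ζ ≠ 0 := hζ.ne_zero hq.ne_zero
  obtain ⟨t, ht, h1, h2⟩ := exists_te hp p hk L hL ζ hζ0
  have htq : t ^ q = 1 := by
    refine eq_one_of_ch hp p hk (pow_mem ht q) fun r hr => ?_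
    rw [ch_pow hp p hk hr ht, h1 r hr, ← zpow_natCast, ← zpow_mul, mul_comm, zpow_mul, zpow_natCast, hζ.pow_eq_one,
      one_zpow]
  obtain ⟨j, hj⟩ := pow_memL hp hk p ht hq htq (h2 n hn)
  have h3 : MM M.toCoxeterSystem hp.isCartan (XX D l k) (ch hp) t ⊔ TT D k ≤ TT D k := by
    refine sup_le (RGD.Sup_le fun a ha => ?_) le_rfl
    obtain ⟨r, hr, rfl⟩ := (isRoot_iff hp M.toCoxeterSystem a).1 ha.1
    exfalso
    have h4 := ha.2
    rw [h1 r hr, hζ.zpow_eq_one_iff_dvd] at h4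
    have h5 := Int.natAbs_dvd_natAbs.2 h4
    rw [Int.natAbs_natCast] at h5
    have h6 := Nat.le_of_dvd (Nat.pos_of_ne_zero (Int.natAbs_ne_zero.2 (hgl r hr))) h5
    have h7 := Finset.single_le_sum (f := fun r => (gl D L r).natAbs) (fun _ _ => Nat.zero_le _)
      (Finset.mem_range.2 hr)
    omega
  have h8 := h3 hj
  have hcop : Nat.Coprime (orderOf n) (q ^ j) := by
    refine Nat.Coprime.pow_right j ?_
    rw [Nat.coprime_comm, Nat.Prime.coprime_iff_not_dvd hq]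
    intro h9
    have := Nat.le_of_dvd (Nat.pos_of_ne_zero hN0) (h9.trans (orderOf_dvd_of_pow_eq_one hN))
    omega
  have h5 : n ∈ Subgroup.zpowers (n ^ q ^ j) := mem_zpowers_pow_iff.2 hcop.symm
  exact (Subgroup.zpowers_le.2 h8) h5

end Cfsg.Agent.H167.EX
end

-- part: H971/RV/Lie
section
/-!
# TEAM RV, row R5 for `F₄, E₆, ²E₆, E₇, E₈`: the adjoint module (helper971)

* `faithful` : if `c ≠ 1` has order prime to `p` and `g` acts trivially on `[V, c]` then `g = 1`;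
* `six` : if `c` centralises the fundamental subgroup `L_s` and `t = ph A`, `A ^ 2 - A + 1 = 0`, then
  `(c - 1) (t - 1) (t ^ 2 - t + 1) = 0` on `V`.
-/

set_option autoImplicit false
set_option linter.unusedSectionVars false

namespace Cfsg.Agent.H971.RV

open CoxeterSystem Cfsg Cfsg.Lie Cfsg.Lie.ChevalleyDatum
open Cfsg.Agent.ChevalleyStructure Cfsg.Agent.ChevalleyStructure.Elts Cfsg.Agent.ChevalleyStructure.CoxeterGeom
  Cfsg.Agent.ChevalleyStructure.CoxeterGeomTypes Cfsg.Agent.ChevalleyStructure.NPerm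
open Cfsg.Agent.ChevalleyStructure.LieAbs Cfsg.Agent.ChevalleyStructure.Ring Cfsg.Agent.ChevalleyStructure.JacMain
  Cfsg.Agent.ChevalleyStructure.LieAut Cfsg.Agent.ChevalleyStructure.JacAll
open Cfsg.Agent.Tits.Roots Cfsg.Agent.Tits.Core Cfsg.Agent.Nodes Cfsg.Agent.Nodes.Reps Cfsg.Agent.Nodes.BNOf
  Cfsg.Agent.Nodes.RGDChev
open Cfsg.Agent.Nodes.RGDFoldSL
open Cfsg.Agent.ChevalleyStructure.SL2Hom (up lo mem_closure_SL2)
open Cfsg.Agent.H167.EX Cfsg.Agent.H512.LinFour.IdealF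
open Module Matrix

universe u v

variable {D : ChevalleyDatum} {k : Type u} [Field k]

/-! ### the bracket -/

/-- the bracket of the Lie algebra -/
noncomputable def br (D : ChevalleyDatum) (k : Type u) [Field k] (v w : D.Idx → k) : D.Idx → k :=
  adv (adR D k) v *ᵥ w

theorem br_add_left (u v w : D.Idx → k) : br D k (u + v) w = br D k u w + br D k v w := by
  unfold br; rw [adv_add, Matrix.add_mulVec]

theorem br_sub_left (u v w : D.Idx → k) : br D k (u - v) w = br D k u w - br D k v w := by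
  unfold br; rw [adv_sub, Matrix.sub_mulVec]

theorem br_smul_left (a : k) (v w : D.Idx → k) : br D k (a • v) w = a • br D k v w := by
  unfold br; rw [adv_smul, Matrix.smul_mulVec]

theorem br_add_right (u v w : D.Idx → k) : br D k u (v + w) = br D k u v + br D k u w := by
  unfold br; rw [Matrix.mulVec_add]

theorem br_sub_right (u v w : D.Idx → k) : br D k u (v - w) = br D k u v - br D k u w := by
  unfold br; rw [Matrix.mulVec_sub]

theorem br_smul_right (a : k) (v w : D.Idx → k) : br D k v (a • w) = a • br D k v w := by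
  unfold br; rw [Matrix.mulVec_smul]

theorem rho_apply (g : ↥(D.group k)) (v : D.Idx → k) : rho D k g v = ((g : GL D.Idx k) : Matrix D.Idx D.Idx k) *ᵥ v := rfl

theorem rho_br (hD : D ∈ [chevG2, chevB2, chevD4, chevF4, chevE6, chevE7, chevE8]) (g : ↥(D.group k))
    (v w : D.Idx → k) : rho D k g (br D k v w) = br D k (rho D k g v) (rho D k g w) := by
  have h := group_mul_adv D hD k g.1 g.2 v
  simp only [rho_apply, br]
  rw [Matrix.mulVec_mulVec, h, ← Matrix.mulVec_mulVec]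

theorem br_br (hD : D ∈ [chevG2, chevB2, chevD4, chevF4, chevE6, chevE7, chevE8]) (x y z : D.Idx → k) :
    br D k x (br D k y z) = br D k (br D k x y) z + br D k y (br D k x z) := by
  have h := jacR_all D hD k x y
  simp only [br]
  rw [h, Matrix.sub_mulVec, ← Matrix.mulVec_mulVec, ← Matrix.mulVec_mulVec]
  abel

/-! ### the decomposition `V = C_V(c) + [V, c]` -/

theorem exists_dec {V : Type v} [AddCommGroup V] [Module k V] (f : End k V) {n : ℕ} (hn : (n : k) ≠ 0) (hf : f ^ n = 1)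
    (v : V) : ∃ a b : V, f a = a ∧ v = a + (f b - b) := by
  set P : End k V := (n : k)⁻¹ • ∑ i ∈ Finset.range n, f ^ i with hP
  have h1 : (f - 1) * ∑ i ∈ Finset.range n, f ^ i = 0 := by rw [mul_geom_sum, hf, sub_self]
  refine ⟨P v, -((n : k)⁻¹ • ∑ i ∈ Finset.range n, (∑ j ∈ Finset.range i, f ^ j) v), ?_, ?_⟩
  · have h2 : (f - 1) * P = 0 := by rw [hP, mul_smul_comm, h1, smul_zero]
    have h3 : ((f - 1) * P) v = 0 := by rw [h2]; rfl
    exact sub_eq_zero.1 h3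
  · have h4 : ∀ i : ℕ, f ((∑ j ∈ Finset.range i, f ^ j) v) - (∑ j ∈ Finset.range i, f ^ j) v = (f ^ i) v - v := by
      intro i
      have h5 : (f - 1) * ∑ j ∈ Finset.range i, f ^ j = f ^ i - 1 := mul_geom_sum f i
      have h6 := congrArg (fun g : End k V => g v) h5
      exact h6
    have h7 : P v = (n : k)⁻¹ • ∑ i ∈ Finset.range n, (f ^ i) v := by
      rw [hP, LinearMap.smul_apply, LinearMap.sum_apply]
    have h8 : f ((n : k)⁻¹ • ∑ i ∈ Finset.range n, (∑ j ∈ Finset.range i, f ^ j) v) -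
        ((n : k)⁻¹ • ∑ i ∈ Finset.range n, (∑ j ∈ Finset.range i, f ^ j) v) = P v - v := by
      rw [map_smul, map_sum, ← smul_sub, ← Finset.sum_sub_distrib, Finset.sum_congr rfl (fun i _ => h4 i),
        Finset.sum_sub_distrib, smul_sub, ← h7, Finset.sum_const, Finset.card_range, ← Nat.cast_smul_eq_nsmul k n v,
        smul_smul, inv_mul_cancel₀ hn, one_smul]
    rw [map_neg, sub_neg_eq_add, neg_add_eq_sub, ← neg_sub, h8, neg_sub]
    abel

/-! ### faithfulness on `[V, c]` -/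

theorem faithful (L : Lac D) (h2 : (2 : k) ≠ 0) {c g : ↥(D.group k)} (hc : c ≠ 1) {n : ℕ} (hn : (n : k) ≠ 0)
    (hcn : c ^ n = 1) (hg : ∀ v, rho D k g (rho D k c v - v) = rho D k c v - v) : g = 1 := by
  have hD := L.inList
  set f := rho D k c with hf
  have hfn : f ^ n = 1 := by rw [hf, ← map_pow, hcn, map_one]
  let W : Set (D.Idx → k) := {w | ∃ v, w = f v - v}
  let I : Submodule k (D.Idx → k) := Submodule.span k (W ∪ {x | ∃ w ∈ W, ∃ w' ∈ W, x = br D k w w'})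
  have hW : ∀ w ∈ W, w ∈ I := fun w hw => Submodule.subset_span (Or.inl hw)
  have hWW : ∀ w ∈ W, ∀ w' ∈ W, br D k w w' ∈ I := fun w hw w' hw' => Submodule.subset_span (Or.inr ⟨w, hw, w', hw', rfl⟩)
  have hfb : ∀ v w, f (br D k v w) = br D k (f v) (f w) := rho_br hD c
  -- `[a, W] ⊆ W` and `[W, a] ⊆ W` for fixed `a`
  have h1 : ∀ a, f a = a → ∀ w ∈ W, br D k a w ∈ W := by
    rintro a ha _ ⟨v, rfl⟩
    exact ⟨br D k a v, by rw [hfb, ha, br_sub_right]⟩
  have h1' : ∀ a, f a = a → ∀ w ∈ W, br D k w a ∈ W := by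
    rintro a ha _ ⟨v, rfl⟩
    exact ⟨br D k v a, by rw [hfb, ha, br_sub_left]⟩
  have hI : ∀ x, ∀ w ∈ I, adv (adR D k) x *ᵥ w ∈ I := by
    intro x w hw
    show br D k x w ∈ I
    obtain ⟨a, b, ha, hx⟩ := exists_dec f hn hfn x
    have hb : f b - b ∈ W := ⟨b, rfl⟩
    induction hw using Submodule.span_induction with
    | mem y hy =>
      rw [hx, br_add_left]
      rcases hy with hy | ⟨w, hw, w', hw', rfl⟩
      · exact I.add_mem (hW _ (h1 a ha y hy)) (hWW _ hb _ hy)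
      · refine I.add_mem ?_ ?_
        · rw [br_br hD]
          exact I.add_mem (hWW _ (h1 a ha w hw) _ hw') (hWW _ hw _ (h1 a ha w' hw'))
        · obtain ⟨a', b', ha', hx'⟩ := exists_dec f hn hfn (br D k w w')
          rw [hx', br_add_right]
          exact I.add_mem (hW _ (h1' a' ha' _ hb)) (hWW _ hb _ ⟨b', rfl⟩)
    | zero => unfold br; rw [Matrix.mulVec_zero]; exact I.zero_mem
    | add y z _ _ hy hz => rw [br_add_right]; exact I.add_mem hy hz
    | smul a y _ hy => rw [br_smul_right]; exact I.smul_mem a hy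
  have htop : I = ⊤ := eq_top L h2 hI c.2 (fun h => hc (Subtype.ext h)) fun w => hW _ ⟨w, rfl⟩
  have hgI : ∀ w ∈ I, rho D k g w = w := by
    intro w hw
    have hgW : ∀ w ∈ W, rho D k g w = w := by rintro _ ⟨v, rfl⟩; exact hg v
    induction hw using Submodule.span_induction with
    | mem y hy =>
      rcases hy with hy | ⟨w, hw, w', hw', rfl⟩
      · exact hgW y hy
      · rw [rho_br hD, hgW w hw, hgW w' hw']
    | zero => exact map_zero _
    | add y z _ _ hy hz => rw [map_add, hy, hz]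
    | smul a y _ hy => rw [map_smul, hy]
  apply Subtype.ext
  apply Units.ext
  refine Matrix.toLin'.injective ?_
  refine LinearMap.ext fun w => ?_
  show rho D k g w = _
  rw [hgI w (by rw [htop]; trivial)]
  show w = Matrix.toLin' (1 : Matrix D.Idx D.Idx k) w
  rw [Matrix.toLin'_one]; rfl

/-! ### elements centralising a long root subgroup -/

/-- the long root elements are quadratic in `t` -/
theorem x_eq_three (L : Lac D) {r : ℕ} (hr : r < D.nroots) (t : k) : D.x k r t = 1 + t • adK D k r +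
    t ^ 2 • (coefE D r 2).map (Int.castRingHom k) := by
  obtain ⟨m, hm⟩ := exists_degree_bound D r
  have hm' : ∀ i j, (xR D (Polynomial ℤ) r Polynomial.X i j).natDegree < m + 3 := fun i j => (hm i j).trans_le (by omega)
  rw [x_eq_xR, xR_eq_sum D r t (m + 3) hm', add_comm m 3, Finset.sum_range_add]
  have h1 : ∑ x ∈ Finset.range m, t ^ (3 + x) • (coefE D r (3 + x)).map (Int.castRingHom k) = 0 := by
    refine Finset.sum_eq_zero fun x _ => ?_
    rw [coefE_three L hr (by omega)]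
    have : (0 : Matrix D.Idx D.Idx ℤ).map (Int.castRingHom k) = 0 := Matrix.map_zero _ (map_zero _)
    rw [this, smul_zero]
  rw [h1, add_zero, Finset.sum_range_succ, Finset.sum_range_succ, Finset.sum_range_one, coefE_zero, pow_zero, one_smul,
    pow_one]
  have h3 : (1 : Matrix D.Idx D.Idx ℤ).map (Int.castRingHom k) = 1 := Matrix.map_one _ (map_zero _) (map_one _)
  rw [h3]
  rfl

theorem comm_adK (L : Lac D) (h2 : (2 : k) ≠ 0) {r : ℕ} (hr : r < D.nroots) {C : Matrix D.Idx D.Idx k}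
    (h : ∀ t : k, C * D.x k r t = D.x k r t * C) : C * adK D k r = adK D k r * C := by
  have h1 := h 1
  have h3 := h (-1)
  rw [x_eq_three L hr] at h1 h3
  have e : (2 : k) • (C * adK D k r) = (2 : k) • (adK D k r * C) := by
    have h4 : C * (1 + (1 : k) • adK D k r + (1 : k) ^ 2 • (coefE D r 2).map (Int.castRingHom k)) -
        C * (1 + (-1 : k) • adK D k r + (-1 : k) ^ 2 • (coefE D r 2).map (Int.castRingHom k)) =
        (1 + (1 : k) • adK D k r + (1 : k) ^ 2 • (coefE D r 2).map (Int.castRingHom k)) * C -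
        (1 + (-1 : k) • adK D k r + (-1 : k) ^ 2 • (coefE D r 2).map (Int.castRingHom k)) * C := by rw [h1, h3]
    rw [← mul_sub, ← sub_mul] at h4
    have h5 : (1 + (1 : k) • adK D k r + (1 : k) ^ 2 • (coefE D r 2).map (Int.castRingHom k)) -
        (1 + (-1 : k) • adK D k r + (-1 : k) ^ 2 • (coefE D r 2).map (Int.castRingHom k)) = (2 : k) • adK D k r := by
      rw [show ((-1 : k)) ^ 2 = 1 by ring, show ((1 : k)) ^ 2 = 1 by ring, two_smul]
      simp only [one_smul, neg_smul]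
      abel
    rw [h5, mul_smul_comm, smul_mul_assoc] at h4
    exact h4
  have h6 := congrArg (fun X => (2 : k)⁻¹ • X) e
  simp only [smul_smul, inv_mul_cancel₀ h2, one_smul] at h6
  exact h6

theorem adK_ne_zero (L : Lac D) (h2 : (2 : k) ≠ 0) {r : ℕ} (hr : r < D.nroots) : adK D k r ≠ 0 := by
  intro h
  have hadd : ∀ (K : Type) [Field K] [CharZero K] (t u : K), xR D K r t * xR D K r u = xR D K r (t + u) :=
    fun K _ _ t u => xR_add_field D L.inList r K t u
  have h3 := adK_pow (K := k) D r hadd 2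
  rw [h, zero_pow two_ne_zero, show Nat.factorial 2 = 2 from rfl, two_nsmul, ← two_smul k] at h3
  have h4 : (coefE D r 2).map (Int.castRingHom k) = 0 := by
    have h6 := congrArg (fun X => (2 : k)⁻¹ • X) h3
    simp only [smul_smul, inv_mul_cancel₀ h2, one_smul, smul_zero] at h6
    exact h6.symm
  have h5 : ∀ t : k, D.x k r t = 1 := fun t => by rw [x_eq_three L hr, h, h4, smul_zero, smul_zero, add_zero, add_zero]
  have h7 : xG L.inList (F := k) r 1 = xG L.inList r 0 := by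
    apply Units.ext
    rw [coe_xG, coe_xG, h5, h5]
  exact one_ne_zero (xG_injective L.inList hr h7)

/-- the basis vector `e_r` -/
noncomputable def ev (k : Type u) [Field k] {r : ℕ} (hr : r < D.nroots) : D.Idx → k := Pi.single (Sum.inr ⟨r, hr⟩) 1

theorem fix_vec (L : Lac D) (h2 : (2 : k) ≠ 0) {r : ℕ} (hr : r < D.nroots) {c : ↥(D.group k)}
    (h : ∀ t : k, ((c : GL D.Idx k) : Matrix D.Idx D.Idx k) * D.x k r t = D.x k r t * ((c : GL D.Idx k) : Matrix D.Idx D.Idx k))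
    {d : D.Idx → k} (hd : ((c : GL D.Idx k) : Matrix D.Idx D.Idx k) * Matrix.diagonal d =
      Matrix.diagonal d * ((c : GL D.Idx k) : Matrix D.Idx D.Idx k))
    (hne : ∀ j, j ≠ Sum.inr ⟨r, hr⟩ → d j ≠ d (Sum.inr ⟨r, hr⟩)) : rho D k c (ev k hr) = ev k hr := by
  set C := ((c : GL D.Idx k) : Matrix D.Idx D.Idx k) with hC
  have h1 : ∀ j, j ≠ Sum.inr ⟨r, hr⟩ → C j (Sum.inr ⟨r, hr⟩) = 0 := by
    intro j hj
    have h3 := congrFun (congrFun hd j) (Sum.inr ⟨r, hr⟩)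
    rw [Matrix.mul_diagonal, Matrix.diagonal_mul] at h3
    have h4 : C j (Sum.inr ⟨r, hr⟩) * (d (Sum.inr ⟨r, hr⟩) - d j) = 0 := by linear_combination h3
    rcases mul_eq_zero.1 h4 with h5 | h5
    · exact h5
    · exact absurd (sub_eq_zero.1 h5).symm (hne j hj)
  set lam := C (Sum.inr ⟨r, hr⟩) (Sum.inr ⟨r, hr⟩) with hlam
  have h3 : C *ᵥ (ev k hr) = lam • ev k hr := by
    ext j
    rw [ev, Matrix.mulVec_single_one, Pi.smul_apply, smul_eq_mul]
    by_cases hj : j = Sum.inr ⟨r, hr⟩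
    · subst hj
      rw [Pi.single_eq_same, mul_one]
      rfl
    · rw [Pi.single_eq_of_ne hj, mul_zero]
      exact h1 j hj
  have h4 := group_mul_adv D L.inList k c.1 c.2 (ev k hr)
  rw [← hC, h3, adv_smul] at h4
  have h5 : adv (adR D k) (ev k hr) = adK D k r := by
    rw [ev, adv_single_one]; rfl
  rw [h5, comm_adK L h2 hr h, smul_mul_assoc] at h4
  have h6 : adK D k r = lam • adK D k r := by
    have h7 := congrArg (fun X => X * ((c⁻¹ : ↥(D.group k)) : GL D.Idx k).1) h4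
    simp only [smul_mul_assoc, mul_assoc] at h7
    have h8 : C * ((c⁻¹ : ↥(D.group k)) : GL D.Idx k).1 = 1 := by
      rw [hC]
      show ((c : GL D.Idx k) : Matrix D.Idx D.Idx k) * (((c : GL D.Idx k)⁻¹ : GL D.Idx k) : Matrix D.Idx D.Idx k) = 1
      rw [← Units.val_mul, mul_inv_cancel, Units.val_one]
    rw [h8, mul_one] at h7
    exact h7
  have h7 : (1 - lam) • adK D k r = 0 := by rw [sub_smul, one_smul, ← h6, sub_self]
  rcases smul_eq_zero.1 h7 with h8 | h8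
  · rw [rho_apply, ← hC, h3, (sub_eq_zero.1 h8).symm, one_smul]
  · exact absurd h8 (adK_ne_zero L h2 hr)

/-! ### long roots -/

/-- the long roots: the pairings with the other roots are `0, ±1` -/
def lng (D : ChevalleyDatum) (s : ℕ) : Bool :=
  decide (s < D.nroots) && decide (D.neg s < D.nroots) && decide (D.neg s ≠ s) && ((List.range D.nroots).all fun r =>
    decide (r = s) || decide (r = D.neg s) || decide (HMatDiagAll.expo D s r = 0) ||
      decide (HMatDiagAll.expo D s r = 1) || decide (HMatDiagAll.expo D s r = -1))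

theorem lng_spec {s : ℕ} (h : lng D s = true) : s < D.nroots ∧ D.neg s < D.nroots ∧ D.neg s ≠ s ∧ ∀ r < D.nroots,
    r = s ∨ r = D.neg s ∨ HMatDiagAll.expo D s r = 0 ∨ HMatDiagAll.expo D s r = 1 ∨ HMatDiagAll.expo D s r = -1 := by
  unfold lng at h
  rw [Bool.and_eq_true, Bool.and_eq_true, Bool.and_eq_true, decide_eq_true_iff, decide_eq_true_iff,
    decide_eq_true_iff] at h
  obtain ⟨⟨⟨h1, h2⟩, h3⟩, h4⟩ := h
  refine ⟨h1, h2, h3, fun r hr => ?_⟩
  have h5 := (List.all_eq_true.1 h4) r (List.mem_range.2 hr)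
  rw [Bool.or_eq_true, Bool.or_eq_true, Bool.or_eq_true, Bool.or_eq_true, decide_eq_true_iff, decide_eq_true_iff,
    decide_eq_true_iff, decide_eq_true_iff, decide_eq_true_iff] at h5
  rcases h5 with (((h5 | h5) | h5) | h5) | h5
  · exact Or.inl h5
  · exact Or.inr (Or.inl h5)
  · exact Or.inr (Or.inr (Or.inl h5))
  · exact Or.inr (Or.inr (Or.inr (Or.inl h5)))
  · exact Or.inr (Or.inr (Or.inr (Or.inr h5)))

theorem expo_self (D : ChevalleyDatum) (s : ℕ) : HMatDiagAll.expo D s s = 2 := by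
  unfold HMatDiagAll.expo; rw [if_pos rfl]

theorem expo_neg {s : ℕ} (h : D.neg s ≠ s) : HMatDiagAll.expo D s (D.neg s) = -2 := by
  unfold HMatDiagAll.expo; rw [if_neg h, if_pos rfl]

theorem zne {ζ : k} (h0 : ζ ≠ 0) (h12 : ζ ^ 12 ≠ 1) {a b : ℤ} (hab : a ≠ b) (h4 : |a - b| ≤ 4) : ζ ^ a ≠ ζ ^ b := by
  intro h
  have h1 : ζ ^ (a - b) = 1 := by rw [zpow_sub₀ h0, h, div_self (zpow_ne_zero _ h0)]
  have h3 : (a - b) ∣ 12 := by
    have h5 := abs_le.1 h4
    have h6 : a - b ≠ 0 := sub_ne_zero.2 hab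
    obtain ⟨c, hc⟩ : ∃ c, c = a - b := ⟨_, rfl⟩
    rw [← hc] at h5 h6 ⊢
    have h7 : c = -4 ∨ c = -3 ∨ c = -2 ∨ c = -1 ∨ c = 1 ∨ c = 2 ∨ c = 3 ∨ c = 4 := by omega
    rcases h7 with rfl | rfl | rfl | rfl | rfl | rfl | rfl | rfl <;> decide
  obtain ⟨m, hm⟩ := h3
  apply h12
  have h5 : ζ ^ (12 : ℤ) = 1 := by rw [hm, _root_.zpow_mul, h1, _root_.one_zpow]
  exact_mod_cast h5

theorem exists_z12 [Infinite k] : ∃ ζ : k, ζ ≠ 0 ∧ ζ ^ 12 ≠ 1 := by
  classical
  obtain ⟨ζ, hζ⟩ := Infinite.exists_notMem_finset (insert (0 : k) (Polynomial.nthRoots 12 (1 : k)).toFinset)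
  rw [Finset.mem_insert, not_or, Multiset.mem_toFinset, Polynomial.mem_nthRoots (by norm_num)] at hζ
  exact ⟨ζ, hζ.1, hζ.2⟩

variable {l : ℕ} {M : CoxeterMatrix (Fin l)} (hp : IsType D l M) {s : ℕ} (hs : s < D.nroots)

include hs in
/-- an element centralising `L_s` fixes `e_s` and `e_{-s}` -/
theorem fix_e [Infinite k] (L : Lac D) (h2 : (2 : k) ≠ 0) (hl : lng D s = true) (hn : D.neg s < D.nroots)
    {c : ↥(D.group k)} (hc : c ∈ Subgroup.centralizer ((ph hp k hs).range : Set ↥(D.group k))) :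
    rho D k c (ev k hs) = ev k hs ∧ rho D k c (ev k hn) = ev k hn := by
  obtain ⟨-, -, hne, hall⟩ := lng_spec hl
  obtain ⟨ζ, hζ0, hζ⟩ := exists_z12 (k := k)
  have hcomm : ∀ A : SL k, c * ph hp k hs A = ph hp k hs A * c := fun A =>
    ((Subgroup.mem_centralizer_iff.1 hc) _ ⟨A, rfl⟩).symm
  have hmat : ∀ {x : ↥(D.group k)}, c * x = x * c → ((c : GL D.Idx k) : Matrix D.Idx D.Idx k) * ((x : GL D.Idx k) : Matrix D.Idx D.Idx k)
      = ((x : GL D.Idx k) : Matrix D.Idx D.Idx k) * ((c : GL D.Idx k) : Matrix D.Idx D.Idx k) := by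
    intro x hx
    have h1 := congrArg (fun y : ↥(D.group k) => ((y : GL D.Idx k) : Matrix D.Idx D.Idx k)) hx
    exact h1
  have hdg := hmat (hcomm (hS ζ))
  rw [coe_ph_hS hp hs hζ0] at hdg
  refine ⟨fix_vec L h2 hs (fun t => ?_) hdg ?_, fix_vec L h2 hn (fun t => ?_) hdg ?_⟩
  · have h1 := hcomm (up t)
    rw [ph_up] at h1
    exact hmat h1
  · rintro (j | r) hj
    · show (1 : k) ≠ ζ ^ HMatDiagAll.expo D s s
      rw [expo_self, ← zpow_zero ζ]
      exact zne hζ0 hζ (by norm_num) (by norm_num)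
    · show ζ ^ HMatDiagAll.expo D s r.val ≠ ζ ^ HMatDiagAll.expo D s s
      rw [expo_self]
      rcases hall r.val r.isLt with h | h | h | h | h
      · exact absurd (congrArg Sum.inr (Fin.ext h)) hj
      · rw [h, expo_neg hne]; exact zne hζ0 hζ (by norm_num) (by norm_num)
      · rw [h]; exact zne hζ0 hζ (by norm_num) (by norm_num)
      · rw [h]; exact zne hζ0 hζ (by norm_num) (by norm_num)
      · rw [h]; exact zne hζ0 hζ (by norm_num) (by norm_num)
  · have h1 := hcomm (lo t)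
    rw [ph_lo] at h1
    exact hmat h1
  · rintro (j | r) hj
    · show (1 : k) ≠ ζ ^ HMatDiagAll.expo D s (D.neg s)
      rw [expo_neg hne, ← zpow_zero ζ]
      exact zne hζ0 hζ (by norm_num) (by norm_num)
    · show ζ ^ HMatDiagAll.expo D s r.val ≠ ζ ^ HMatDiagAll.expo D s (D.neg s)
      rw [expo_neg hne]
      rcases hall r.val r.isLt with h | h | h | h | h
      · rw [h, expo_self]; exact zne hζ0 hζ (by norm_num) (by norm_num)
      · exact absurd (congrArg Sum.inr (Fin.ext h)) hj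
      · rw [h]; exact zne hζ0 hζ (by norm_num) (by norm_num)
      · rw [h]; exact zne hζ0 hζ (by norm_num) (by norm_num)
      · rw [h]; exact zne hζ0 hζ (by norm_num) (by norm_num)

/-- the endomorphism `(t - 1) (t ^ 2 - t + 1)` -/
noncomputable def mm (t : ↥(D.group k)) : End k (D.Idx → k) :=
  (rho D k t - 1) * (rho D k t * rho D k t - rho D k t + 1)

theorem conj_poly {R : Type*} [Ring R] {a b t : R} (h1 : a * b = 1) (h2 : b * a = 1) :
    (a * t * b - 1) * (a * t * b * (a * t * b) - a * t * b + 1) = a * ((t - 1) * (t * t - t + 1)) * b := by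
  have e1 : a * t * b - 1 = a * (t - 1) * b := by rw [mul_sub, sub_mul, mul_one, h1]
  have e2 : a * t * b * (a * t * b) = a * (t * t) * b := by
    calc a * t * b * (a * t * b) = a * t * (b * a) * t * b := by noncomm_ring
      _ = a * (t * t) * b := by rw [h2]; noncomm_ring
  have e3 : a * t * b * (a * t * b) - a * t * b + 1 = a * (t * t - t + 1) * b := by
    rw [e2, mul_add, mul_sub, add_mul, sub_mul, mul_one, h1]
  rw [e3, e1]
  calc a * (t - 1) * b * (a * (t * t - t + 1) * b) = a * (t - 1) * (b * a) * (t * t - t + 1) * b := by noncomm_ring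
    _ = _ := by rw [h2]; noncomm_ring

theorem mm_conj (g t : ↥(D.group k)) : mm (g * t * g⁻¹) = rho D k g * mm t * rho D k g⁻¹ := by
  have h1 : rho D k (g * t * g⁻¹) = rho D k g * rho D k t * rho D k g⁻¹ := by rw [map_mul, map_mul]
  have h3 : rho D k g⁻¹ * rho D k g = 1 := by rw [← map_mul, inv_mul_cancel, map_one]
  have h4 : rho D k g * rho D k g⁻¹ = 1 := by rw [← map_mul, mul_inv_cancel, map_one]
  unfold mm
  rw [h1, conj_poly h4 h3]

/-- the case of a diagonal element -/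
theorem six_diag [Infinite k] (L : Lac D) (h2 : (2 : k) ≠ 0) (hl : lng D s = true)
    {c : ↥(D.group k)} (hc : c ∈ Subgroup.centralizer ((ph hp k hs).range : Set ↥(D.group k)))
    {ζ : k} (hζ : ζ * ζ - ζ + 1 = 0) (v : D.Idx → k) :
    rho D k c (mm (ph hp k hs (hS ζ)) v) = mm (ph hp k hs (hS ζ)) v := by
  obtain ⟨-, hn, hne, hall⟩ := lng_spec hl
  have hζ0 : ζ ≠ 0 := by
    rintro rfl
    simp at hζ
  obtain ⟨h3, h4⟩ := fix_e hp hs L h2 hl hn hc
  set d : D.Idx → k := Sum.elim (fun _ => (1 : k)) (fun r : Fin D.nroots => ζ ^ HMatDiagAll.expo D s r.val) with hd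
  have hrho : rho D k (ph hp k hs (hS ζ)) = Matrix.toLin' (Matrix.diagonal d) := by
    rw [rho_eq, coe_ph_hS hp hs hζ0]
  have hdv : ∀ w : D.Idx → k, Matrix.toLin' (Matrix.diagonal d) w = fun j => d j * w j := by
    intro w
    ext j
    rw [Matrix.toLin'_apply, Matrix.mulVec_diagonal]
  have hM : mm (ph hp k hs (hS ζ)) v = fun j => (d j - 1) * (d j * d j - d j + 1) * v j := by
    have e1 : ∀ w : D.Idx → k, rho D k (ph hp k hs (hS ζ)) w = fun j => d j * w j := fun w => by rw [hrho]; exact hdv w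
    show rho D k (ph hp k hs (hS ζ)) ((rho D k (ph hp k hs (hS ζ)) (rho D k (ph hp k hs (hS ζ)) v) -
      rho D k (ph hp k hs (hS ζ)) v + v)) - ((rho D k (ph hp k hs (hS ζ)) (rho D k (ph hp k hs (hS ζ)) v) -
      rho D k (ph hp k hs (hS ζ)) v + v)) = _
    simp only [e1]
    ext j
    simp only [Pi.sub_apply, Pi.add_apply]
    ring
  have hinv : ζ⁻¹ * ζ⁻¹ - ζ⁻¹ + 1 = 0 := by
    field_simp
    linear_combination hζ
  have hzero : ∀ j, j ≠ Sum.inr ⟨s, hs⟩ → j ≠ Sum.inr ⟨D.neg s, hn⟩ → (d j - 1) * (d j * d j - d j + 1) = 0 := by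
    rintro (j | r) h5 h6
    · show ((1 : k) - 1) * _ = 0
      rw [sub_self, zero_mul]
    · show (ζ ^ HMatDiagAll.expo D s r.val - 1) * (ζ ^ HMatDiagAll.expo D s r.val * ζ ^ HMatDiagAll.expo D s r.val -
        ζ ^ HMatDiagAll.expo D s r.val + 1) = 0
      rcases hall r.val r.isLt with h | h | h | h | h
      · exact absurd (congrArg Sum.inr (Fin.ext h)) h5
      · exact absurd (congrArg Sum.inr (Fin.ext h)) h6
      · rw [h, zpow_zero, sub_self, zero_mul]
      · rw [h, zpow_one, hζ, mul_zero]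
      · rw [h, _root_.zpow_neg_one, hinv, mul_zero]
  have hsum : mm (ph hp k hs (hS ζ)) v = ((d (Sum.inr ⟨s, hs⟩) - 1) * (d (Sum.inr ⟨s, hs⟩) * d (Sum.inr ⟨s, hs⟩) -
      d (Sum.inr ⟨s, hs⟩) + 1) * v (Sum.inr ⟨s, hs⟩)) • ev k hs +
      ((d (Sum.inr ⟨D.neg s, hn⟩) - 1) * (d (Sum.inr ⟨D.neg s, hn⟩) * d (Sum.inr ⟨D.neg s, hn⟩) -
      d (Sum.inr ⟨D.neg s, hn⟩) + 1) * v (Sum.inr ⟨D.neg s, hn⟩)) • ev k hn := by
    rw [hM]
    have hne' : (Sum.inr ⟨s, hs⟩ : D.Idx) ≠ Sum.inr ⟨D.neg s, hn⟩ := by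
      intro h
      have h7 := Sum.inr.inj h
      exact hne (congrArg Fin.val h7).symm
    ext j
    rw [Pi.add_apply, Pi.smul_apply, Pi.smul_apply, smul_eq_mul, smul_eq_mul]
    by_cases hj1 : j = Sum.inr ⟨s, hs⟩
    · subst hj1
      rw [ev, ev, Pi.single_eq_same, Pi.single_eq_of_ne hne', mul_one, mul_zero, add_zero]
    · by_cases hj2 : j = Sum.inr ⟨D.neg s, hn⟩
      · subst hj2
        rw [ev, ev, Pi.single_eq_same, Pi.single_eq_of_ne hj1, mul_one, mul_zero, zero_add]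
      · rw [ev, ev, Pi.single_eq_of_ne hj1, Pi.single_eq_of_ne hj2, mul_zero, mul_zero, add_zero, hzero j hj1 hj2,
          zero_mul]
  rw [hsum, map_add, map_smul, map_smul, h3, h4]

/-- the general case -/
theorem six [Infinite k] (L : Lac D) (h2 : (2 : k) ≠ 0) (hl : lng D s = true)
    {c g : ↥(D.group k)} (hc : g⁻¹ * c * g ∈ Subgroup.centralizer ((ph hp k hs).range : Set ↥(D.group k)))
    {A P : SL k} {ζ : k} (hζ : ζ * ζ - ζ + 1 = 0) (hA : A = P * hS ζ * P⁻¹) (v : D.Idx → k) :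
    rho D k c (mm (g * ph hp k hs A * g⁻¹) v) = mm (g * ph hp k hs A * g⁻¹) v := by
  set y := g * ph hp k hs P with hy
  have e1 : g * ph hp k hs A * g⁻¹ = y * ph hp k hs (hS ζ) * y⁻¹ := by
    rw [hA, hy, map_mul, map_mul, map_inv]; group
  have e2 : y⁻¹ * c * y = g⁻¹ * c * g := by
    have h1 := (Subgroup.mem_centralizer_iff.1 hc) (ph hp k hs P) ⟨P, rfl⟩
    rw [hy]
    calc (g * ph hp k hs P)⁻¹ * c * (g * ph hp k hs P) = (ph hp k hs P)⁻¹ * ((g⁻¹ * c * g) * ph hp k hs P) := by group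
      _ = (ph hp k hs P)⁻¹ * (ph hp k hs P * (g⁻¹ * c * g)) := by rw [h1]
      _ = _ := by group
  have h3 := six_diag hp hs L h2 hl hc hζ (rho D k y⁻¹ v)
  rw [← e2] at h3
  rw [e1, mm_conj]
  show rho D k c (rho D k y (mm (ph hp k hs (hS ζ)) (rho D k y⁻¹ v))) = rho D k y (mm (ph hp k hs (hS ζ)) (rho D k y⁻¹ v))
  have h4 : rho D k c (rho D k y (mm (ph hp k hs (hS ζ)) (rho D k y⁻¹ v))) =
      rho D k y (rho D k (y⁻¹ * c * y) (mm (ph hp k hs (hS ζ)) (rho D k y⁻¹ v))) := by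
    rw [← Module.End.mul_apply, ← Module.End.mul_apply (rho D k y), ← map_mul, ← map_mul]
    congr 2
    group
  rw [h4, h3]

end Cfsg.Agent.H971.RV
end

private theorem dce_3a410f2b2040 : _root_.True := by
  try have : _root_.True := by simp only [_root_.Cfsg.Agent.H971.RV.br.eq_1]
  try have : _root_.True := by simp only [_root_.Cfsg.Agent.H971.RV.ev.eq_1]
  try have : _root_.True := by simp only [_root_.Cfsg.Agent.H167.EX.ph.congr_simp]
  exact _root_.True.intro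
end

-- part: H167/EX/Set
section
prune_inst 0x4702000502202000018001030002004040000000063080098e001020d0ad702290107010c001810001aa0d0003000081100005002300000000000000005002080291206b258ad0476009f803004000000000000000000000000000000041004000000000
set_option linter.all false
open scoped Cfsg.Agent.FastGrp

/-!
# Centralisers of sets of toral elements of `q`-power order (helper167, S4312, exceptional groups)

* `pow_mem_set` : `S ⊆ T` a set of elements of `q`-power order, `g` commutes with the elements of `S`: some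
  `g ^ q ^ m` lies in `⟨X_a : χ_a = 1 on S⟩ T`.
-/

set_option autoImplicit false
set_option linter.unusedSectionVars false

namespace Cfsg.Agent.H167.EX

open CoxeterSystem Cfsg Cfsg.Lie Cfsg.Lie.ChevalleyDatum
open Cfsg.Agent.ChevalleyStructure Cfsg.Agent.ChevalleyStructure.Elts Cfsg.Agent.ChevalleyStructure.CoxeterGeom
  Cfsg.Agent.ChevalleyStructure.CoxeterGeomTypes Cfsg.Agent.ChevalleyStructure.NPerm
open Cfsg.Agent.Tits.Roots Cfsg.Agent.Tits.Core Cfsg.Agent.Tits.RootComb Cfsg.Agent.Tits.Exchange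
  Cfsg.Agent.Nodes Cfsg.Agent.Nodes.Reps Cfsg.Agent.Nodes.BNOf
  Cfsg.Agent.Nodes.RGDChev Cfsg.Agent.Nodes.Bruhat Cfsg.Agent.Nodes.NormalForm Cfsg.Agent.Nodes.StabComb
  Cfsg.Agent.Nodes.OppDec Cfsg.Agent.Nodes.LeviDec Cfsg.Agent.Nodes.SubComb Cfsg.Agent.Nodes.Coroot
open Cfsg.Agent.KFacts.RgdField Cfsg.Agent.KFacts.RgdChevCoord
open Cfsg.Agent.BpExc Cfsg.Agent.BpExc.TorCent Cfsg.Agent.BpExc.TorChev Cfsg.Agent.BpExc.Tow
  Cfsg.Agent.BpExc.TowChev Cfsg.Agent.BpExc.Fr Cfsg.Agent.BpExc.Pair Cfsg.Agent.BpExc.LangFr Cfsg.Agent.GpExc.Field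
  Cfsg.Agent.BpExc.TorAll
open Cfsg.Agent.H469.Exc Cfsg.Agent.H469.Exc.SigFr
open Module

/-! ### the general RGD statement -/

namespace SetC

variable {I W Y : Type*} [Fintype I] [DecidableEq I] [Group W] [Group Y] {M : CoxeterMatrix I}
  {cs : CoxeterSystem M W} {A : I → I → ℤ} {h : IsCartan M A} {p : ℕ} {T : Subgroup Y} {n : I → Y}
  {X : (I → ℤ) → Subgroup Y} {F : Type*} [Field F] {xx : (I → ℤ) → F → Y} {χ : (I → ℤ) → Y → F}

/-- the roots centralised by `S` -/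
def Sxs (cs : CoxeterSystem M W) (h : IsCartan M A) (χ : (I → ℤ) → Y → F) (S : Set Y) : Set (I → ℤ) :=
  {a | IsRoot cs h a ∧ ∀ x ∈ S, χ a x = 1}

/-- the group generated by the root groups centralised by `S` -/
def MMs (cs : CoxeterSystem M W) (h : IsCartan M A) (X : (I → ℤ) → Subgroup Y) (χ : (I → ℤ) → Y → F) (S : Set Y) :
    Subgroup Y := RGD.Sup X (Sxs cs h χ S)

/-- the elements of `W` preserving the characters on `S` and the positive system of `Sxs` -/
def PPs (cs : CoxeterSystem M W) (h : IsCartan M A) (χ : (I → ℤ) → Y → F) (S : Set Y) [Finite W] : Subgroup W :=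
  { carrier := {w | (∀ a, IsRoot cs h a → ∀ x ∈ S, χ (rep cs h w a) x = χ a x) ∧
      ∀ a ∈ Sxs cs h χ S, 0 ≤ a → 0 ≤ rep cs h w a}
    one_mem' := by
      refine ⟨fun a _ x _ => ?_, fun a _ h0 => ?_⟩
      · rw [map_one, Module.End.one_apply]
      · rwa [map_one, Module.End.one_apply]
    mul_mem' := by
      rintro v w ⟨h1, h2⟩ ⟨h3, h4⟩
      refine ⟨fun a ha x hx => ?_, fun a ha h0 => ?_⟩
      · rw [rep_mul_apply, h1 _ (ha.act w) x hx, h3 a ha x hx]
      · rw [rep_mul_apply]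
        exact h2 _ ⟨ha.1.act w, fun x hx => by rw [h3 a ha.1 x hx, ha.2 x hx]⟩ (h4 a ha h0)
    inv_mem' := by
      rintro w ⟨h1, h2⟩
      have h3 : ∀ a, IsRoot cs h a → ∀ x ∈ S, χ (rep cs h w⁻¹ a) x = χ a x := fun a ha x hx => by
        rw [← h1 _ (ha.act w⁻¹) x hx, rep_apply_inv]
      refine ⟨h3, fun a ha h0 => ?_⟩
      rcases (ha.1.act w⁻¹).pos_or_neg with h4 | h4
      · exact h4
      · exfalso
        have h6 : ∀ m : ℕ, 0 ≤ rep cs h (w ^ m) a := by
          intro m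
          induction m with
          | zero => rwa [pow_zero, map_one, Module.End.one_apply]
          | succ m ih =>
            rw [pow_succ', rep_mul_apply]
            refine h2 _ ⟨ha.1.act _, fun x hx => ?_⟩ ih
            clear ih
            induction m with
            | zero => rw [pow_zero, map_one, Module.End.one_apply]; exact ha.2 x hx
            | succ m ih => rw [pow_succ', rep_mul_apply, h1 _ (ha.1.act _) x hx, ih]
        have h7 := h6 (orderOf w - 1)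
        have h8 : w ^ (orderOf w - 1) = w⁻¹ := by
          have h9 : w ^ (orderOf w - 1) * w = 1 := by
            rw [← pow_succ, Nat.sub_add_cancel (orderOf_pos w), pow_orderOf_eq_one]
          exact eq_inv_of_mul_eq_one_left h9
        rw [h8] at h7
        exact (ha.1.act w⁻¹).not_pos_neg h7 h4 }

theorem mem_PPs [Finite W] {S : Set Y} {w : W} : w ∈ PPs cs h χ S ↔
    (∀ a, IsRoot cs h a → ∀ x ∈ S, χ (rep cs h w a) x = χ a x) ∧
      ∀ a ∈ Sxs cs h χ S, 0 ≤ a → 0 ≤ rep cs h w a := Iff.rfl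

/-- **`PPs` is a `q`-group.** -/
theorem isPGroup_PPs [Finite W] (hA : ChAdd cs h T χ) {S : Set Y} (hS : S ⊆ T) {l : ℕ} (hl : l.Prime)
    (hxl : ∀ x ∈ S, ∀ a, IsRoot cs h a → ∃ j : ℕ, χ a x ^ l ^ j = 1) : IsPGroup l (PPs cs h χ S) := by
  classical
  have hfac : Fact l.Prime := ⟨hl⟩
  rw [IsPGroup.iff_card]
  refine ⟨(Nat.card (PPs cs h χ S)).primeFactorsList.length, ?_⟩
  apply Nat.eq_prime_pow_of_unique_prime_dvd Nat.card_pos.ne'
  intro q hq hqd
  have hqf : Fact q.Prime := ⟨hq⟩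
  obtain ⟨⟨w, hwP⟩, hw⟩ := exists_prime_orderOf_dvd_card' q hqd
  have hwo : orderOf w = q := by rw [← hw]; exact (Subgroup.orderOf_mk w hwP).symm
  have hw1 : w ≠ 1 := by
    rintro rfl
    rw [orderOf_one] at hwo
    exact hq.one_lt.ne hwo
  obtain ⟨a, ha, hsum⟩ := Fix.exists_root_sum_eq_zero (cs := cs) (h := h) hw1 hq.pos
    (by rw [← hwo]; exact pow_orderOf_eq_one w)
  by_contra hqp
  have h3 : ∀ x ∈ S, χ a x = 1 := by
    intro x hx
    obtain ⟨φ, hφ0, hφ, hχ⟩ := hA x (hS hx)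
    have h1 : ∀ m : ℕ, φ (∑ i ∈ Finset.range m, rep cs h (w ^ i) a) = φ a ^ m := by
      intro m
      induction m with
      | zero => rw [Finset.sum_range_zero, hφ0, pow_zero]
      | succ m ih =>
        rw [Finset.sum_range_succ, hφ, ih, ← hχ _ (ha.act _),
          (mem_PPs.1 ((PPs cs h χ S).pow_mem hwP m)).1 a ha x hx, hχ a ha, pow_succ]
    have h2 : χ a x ^ q = 1 := by rw [hχ a ha, ← h1 q, hsum, hφ0]
    obtain ⟨j, hj⟩ := hxl x hx a ha
    have hcop : Nat.Coprime (l ^ j) q := Nat.Coprime.pow_left _ ((Nat.coprime_primes hl hq).2 (Ne.symm hqp))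
    have h4 : orderOf (χ a x) ∣ l ^ j := orderOf_dvd_of_pow_eq_one hj
    have h5 : orderOf (χ a x) ∣ q := orderOf_dvd_of_pow_eq_one h2
    have h6 := Nat.dvd_gcd h4 h5
    rw [hcop, Nat.dvd_one] at h6
    exact orderOf_eq_one_iff.1 h6
  have hmem : ∀ i : ℕ, rep cs h (w ^ i) a ∈ Sxs cs h χ S := fun i =>
    ⟨ha.act _, fun x hx => by rw [(mem_PPs.1 ((PPs cs h χ S).pow_mem hwP i)).1 a ha x hx, h3 x hx]⟩
  have hzero : ht (∑ i ∈ Finset.range q, rep cs h (w ^ i) a) = 0 := by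
    rw [hsum]; unfold ht; simp
  have hsumht : ∀ s : Finset ℕ, ht (∑ i ∈ s, rep cs h (w ^ i) a) = ∑ i ∈ s, ht (rep cs h (w ^ i) a) := fun s => by
    have := map_sum Nodes.Slope.htHom (fun i => rep cs h (w ^ i) a) s
    exact this
  rw [hsumht] at hzero
  rcases ha.pos_or_neg with h4 | h4
  · have hpos : ∀ i : ℕ, 0 < ht (rep cs h (w ^ i) a) := fun i =>
      RGD.ht_pos (ha.act _) ((mem_PPs.1 ((PPs cs h χ S).pow_mem hwP i)).2 a ⟨ha, h3⟩ h4)
    have h6 : 0 < ∑ i ∈ Finset.range q, ht (rep cs h (w ^ i) a) :=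
      Finset.sum_pos (fun i _ => hpos i) ⟨0, Finset.mem_range.2 hq.pos⟩
    omega
  · have hna : -a ∈ Sxs cs h χ S := by
      refine ⟨ha.neg, fun x hx => ?_⟩
      obtain ⟨φ, hφ0, hφ, hχ⟩ := hA x (hS hx)
      have h5 := hφ a (-a)
      rw [add_neg_cancel, hφ0, ← hχ a ha, h3 x hx, one_mul, ← hχ _ ha.neg] at h5
      exact h5.symm
    have hneg : ∀ i : ℕ, ht (rep cs h (w ^ i) a) < 0 := by
      intro i
      have h5 := RGD.ht_pos (ha.neg.act (w ^ i)) ((mem_PPs.1 ((PPs cs h χ S).pow_mem hwP i)).2 (-a) hna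
        (neg_nonneg.2 h4))
      have h6 : ht (rep cs h (w ^ i) (-a)) = - ht (rep cs h (w ^ i) a) := by
        rw [map_neg]; unfold ht; simp
      omega
    have h6 : ∑ i ∈ Finset.range q, ht (rep cs h (w ^ i) a) < 0 :=
      Finset.sum_neg (fun i _ => hneg i) ⟨0, Finset.mem_range.2 hq.pos⟩
    omega

variable (R : RGD cs h p T n X) (C : Coords cs h T n X xx χ)

section Elt

variable {S : Set Y} (hS : S ⊆ T)

include C hS

theorem chi_neg (hA : ChAdd cs h T χ) {a : I → ℤ} (ha : a ∈ Sxs cs h χ S) : -a ∈ Sxs cs h χ S := by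
  refine ⟨ha.1.neg, fun x hx => ?_⟩
  obtain ⟨φ, h0, hadd, hφ⟩ := hA x (hS hx)
  have h1 := hadd a (-a)
  rw [add_neg_cancel, h0, ← hφ a ha.1, ha.2 x hx, one_mul, ← hφ _ ha.1.neg] at h1
  exact h1.symm

/-- The root groups of `Sxs` centralise `S`. -/
theorem X_le_centralizer {a : I → ℤ} (ha : a ∈ Sxs cs h χ S) : X a ≤ Subgroup.centralizer S := by
  intro u hu
  rw [Subgroup.mem_centralizer_iff]
  intro x hx
  exact (Subgroup.mem_centralizer_singleton_iff.1
    (TorCent.X_le_centralizer C (hS hx) (a := a) ⟨ha.1, ha.2 x hx⟩ hu)).symm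

theorem MMs_le_centralizer : MMs cs h X χ S ≤ Subgroup.centralizer S :=
  RGD.Sup_le fun _ ha => X_le_centralizer C hS ha

theorem mem_Sxs_of_centralizer {a : I → ℤ} (ha : IsRoot cs h a) {u : Y} (hu : u ∈ X a) (h1 : u ≠ 1)
    (hc : u ∈ Subgroup.centralizer S) : a ∈ Sxs cs h χ S :=
  ⟨ha, fun x hx => (TorCent.mem_Sx_of_centralizer C (hS hx) ha hu h1
    (Subgroup.mem_centralizer_singleton_iff.2 (Subgroup.mem_centralizer_iff.1 hc x hx).symm)).2⟩

theorem Sup_centralizer_le (S' : Set (I → ℤ)) (hS' : ∀ a ∈ S', IsRoot cs h a) :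
    RGD.Sup (fun a => X a ⊓ Subgroup.centralizer S) S' ≤ MMs cs h X χ S := by
  refine RGD.Sup_le fun a ha => ?_
  rintro u ⟨hu, hc⟩
  by_cases h1 : u = 1
  · rw [h1]; exact one_mem _
  · exact RGD.le_Sup (mem_Sxs_of_centralizer C hS (hS' a ha) hu h1 hc) hu

theorem chi_of_centralizer {w : W} {k : Y} (hk : Rp cs R.nsys w k) (hc : k ∈ Subgroup.centralizer S) {a : I → ℤ}
    (ha : IsRoot cs h a) {x : Y} (hx : x ∈ S) : χ (rep cs h w a) x = χ a x :=
  TorCent.chi_of_centralizer R C (hS hx) hk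
    (Subgroup.mem_centralizer_singleton_iff.2 (Subgroup.mem_centralizer_iff.1 hc x hx).symm) ha

theorem cj_MMs {w : W} {k : Y} (hk : Rp cs R.nsys w k) (hc : k ∈ Subgroup.centralizer S) :
    cj k (MMs cs h X χ S) = MMs cs h X χ S := by
  unfold MMs
  rw [KFacts.RgdPar.cj_Sup_eq R hk (fun a ha => ha.1)]
  congr 1
  ext a
  constructor
  · rintro ⟨h1, h2⟩
    have h3 : IsRoot cs h a := by
      have := h1.act w
      rwa [rep_apply_inv] at this
    refine ⟨h3, fun x hx => ?_⟩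
    have h2' := h2 x hx
    rw [← chi_of_centralizer R C hS hk hc (h3.act w⁻¹) hx, rep_apply_inv] at h2'
    exact h2'
  · rintro ⟨h1, h2⟩
    refine ⟨h1.act w⁻¹, fun x hx => ?_⟩
    rw [← chi_of_centralizer R C hS hk hc (h1.act w⁻¹) hx, rep_apply_inv]
    exact h2 x hx

/-- **The form of the elements of the centraliser.** -/
theorem exists_form [Finite W] (hTc : ∀ s ∈ T, ∀ t ∈ T, s * t = t * s) (hA : ChAdd cs h T χ) {g : Y}
    (hg : g ∈ GG cs h T X) (hc : g ∈ Subgroup.centralizer S) :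
    ∃ w ∈ PPs cs h χ S, ∃ k ∈ Subgroup.centralizer S, Rp cs R.nsys w k ∧ k⁻¹ * g ∈ MMs cs h X χ S ⊔ T := by
  have hTx : T ≤ Subgroup.centralizer S := fun t ht => by
    rw [Subgroup.mem_centralizer_iff]; exact fun x hx => hTc x (hS hx) t ht
  obtain ⟨u, hu, w, k, hk, hkc, v, hv, rfl⟩ := mem_centralizer R (S := S) hS hg hc
  have hu' := Sup_centralizer_le C hS _ (fun a ha => ha.1) hu
  have hv' := Sup_centralizer_le C hS _ (fun a ha => ha.1) hv
  let V : Subgroup W :=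
    { carrier := {v | ∃ m ∈ MMs cs h X χ S ⊔ T, Rp cs R.nsys v m}
      one_mem' := ⟨1, one_mem _, rp_one⟩
      mul_mem' := by
        rintro a b ⟨m, hm, hm'⟩ ⟨m', hm1, hm2⟩
        exact ⟨m * m', mul_mem hm hm1, hm'.mul hm2⟩
      inv_mem' := by
        rintro a ⟨m, hm, hm'⟩
        exact ⟨m⁻¹, inv_mem hm, hm'.inv⟩ }
  have hV : ∀ a ∈ Sxs cs h χ S, ∃ w i, a = rep cs h w (sr i) ∧ rfl' cs w i ∈ V := by
    intro a ha
    obtain ⟨⟨w, i, hw⟩, h2⟩ := id ha
    refine ⟨w, i, hw, ?_⟩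
    obtain ⟨m, hm, hm'⟩ := exists_rfl R w i
    refine ⟨m, ?_, hm'⟩
    rw [← hw] at hm
    exact (sup_le le_sup_right (sup_le (le_trans (RGD.le_Sup ha) le_sup_left)
      (le_trans (RGD.le_Sup (chi_neg C hS hA ha)) le_sup_left)) :
      T ⊔ (X a ⊔ X (-a)) ≤ MMs cs h X χ S ⊔ T) hm
  obtain ⟨v₁, ⟨m, hm, hm'⟩, hv₁⟩ := exists_adjust (cs := cs) (h := h) (Sxs cs h χ S) V hV w
  have hmc : m ∈ Subgroup.centralizer S := (sup_le (MMs_le_centralizer C hS) hTx : _ ≤ _) hm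
  have hkm : Rp cs R.nsys (w * v₁) (k * m) := hk.mul hm'
  have hkmc : k * m ∈ Subgroup.centralizer S := mul_mem hkc hmc
  refine ⟨w * v₁, ⟨fun a ha x hx => chi_of_centralizer R C hS hkm hkmc ha hx, hv₁⟩, k * m, hkmc, hkm, ?_⟩
  have h1 : (k * m)⁻¹ * (u * k * v) = ((k * m)⁻¹ * u * (k * m)) * (m⁻¹ * v) := by group
  rw [h1]
  refine mul_mem (Subgroup.mem_sup_left ?_) (mul_mem (inv_mem hm) (Subgroup.mem_sup_left hv'))
  rw [← mem_cj, cj_MMs R C hS hkm hkmc]
  exact hu'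

include R in
/-- **Modulo `MMs T` the centraliser is a `q`-group.** -/
theorem exists_pow_mem [Finite W] (hTc : ∀ s ∈ T, ∀ t ∈ T, s * t = t * s) (hA : ChAdd cs h T χ) {l : ℕ}
    (hl : l.Prime) (hxl : ∀ x ∈ S, ∀ a, IsRoot cs h a → ∃ j : ℕ, χ a x ^ l ^ j = 1) {g : Y} (hg : g ∈ GG cs h T X)
    (hc : g ∈ Subgroup.centralizer S) : ∃ m : ℕ, g ^ l ^ m ∈ MMs cs h X χ S ⊔ T := by
  obtain ⟨w, hw, k, hkc, hk, hm⟩ := exists_form R C hS hTc hA hg hc
  obtain ⟨m, hm1⟩ := isPGroup_PPs hA hS hl hxl ⟨w, hw⟩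
  have hw1 : w ^ l ^ m = 1 := congrArg Subtype.val hm1
  have hkn : k ∈ Subgroup.normalizer ((MMs cs h X χ S ⊔ T : Subgroup Y) : Set Y) :=
    mem_normalizer_iff_cj.2 (by rw [cj_sup, cj_MMs R C hS hk hkc, cj_T R hk])
  have h1 : ∀ j : ℕ, (k ^ j)⁻¹ * g ^ j ∈ MMs cs h X χ S ⊔ T := by
    intro j
    induction j with
    | zero => rw [pow_zero, pow_zero, inv_one, one_mul]; exact one_mem _
    | succ j ih =>
      have h2 : (k ^ (j + 1))⁻¹ * g ^ (j + 1) = k⁻¹ * ((k ^ j)⁻¹ * g ^ j) * k * (k⁻¹ * g) := by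
        rw [pow_succ, pow_succ]; group
      rw [h2]
      refine mul_mem ?_ hm
      have h3 := (Subgroup.mem_normalizer_iff.1 (inv_mem hkn) ((k ^ j)⁻¹ * g ^ j)).1 ih
      rwa [inv_inv] at h3
  have h2 : ∀ j : ℕ, Rp cs R.nsys (w ^ j) (k ^ j) := by
    intro j
    induction j with
    | zero => rw [pow_zero, pow_zero]; exact rp_one
    | succ j ih => rw [pow_succ, pow_succ]; exact ih.mul hk
  refine ⟨m, ?_⟩
  have h3 := h2 (l ^ m)
  rw [hw1] at h3
  have h4 : g ^ l ^ m = k ^ l ^ m * ((k ^ l ^ m)⁻¹ * g ^ l ^ m) := by group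
  rw [h4]
  exact mul_mem (Subgroup.mem_sup_right h3.mem_of_one) (h1 _)

end Elt

end SetC

/-! ### the exceptional groups -/

universe u v

variable {D : ChevalleyDatum} {l : ℕ} {M : CoxeterMatrix (Fin l)} (hp : IsType D l M) {k : Type u} [Field k]

theorem ch_pow_fin {K : Type u} [Field K] [Finite K] (p : ℕ) [Fact p.Prime] [CharP K p] {a : Fin l → ℤ}
    (ha : IsRoot M.toCoxeterSystem hp.isCartan a) {x : ↥(D.group K)} (hx : x ∈ TT D K) (m : ℕ) :
    ch hp a (x ^ m) = ch hp a x ^ m := by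
  have C := coords (K := K) hp M.toCoxeterSystem p
  induction m with
  | zero =>
    have h1 := (C.coord a ha).chi_mul (one_mem (TT D K)) (one_mem _)
    rw [mul_one] at h1
    rw [pow_zero, pow_zero]
    exact (mul_eq_left₀ ((C.coord a ha).chi_ne_zero (one_mem _))).1 h1.symm
  | succ m ih => rw [pow_succ, pow_succ, (C.coord a ha).chi_mul (pow_mem hx m) hx, ih]

theorem pow_mem_set_fin {K : Type u} [Field K] [Finite K] (p : ℕ) [Fact p.Prime] [CharP K p]
    {S : Set ↥(D.group K)} (hS : S ⊆ TT D K) {q : ℕ} (hq : q.Prime) (hSq : ∀ x ∈ S, ∃ j : ℕ, x ^ q ^ j = 1)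
    {g : ↥(D.group K)} (hg : ∀ x ∈ S, g * x = x * g) :
    ∃ m : ℕ, g ^ q ^ m ∈ SetC.MMs M.toCoxeterSystem hp.isCartan (XX D l K) (ch hp) S ⊔ TT D K := by
  have := finite_W hp M.toCoxeterSystem
  have R := rgd (K := K) hp M.toCoxeterSystem p
  have C := coords (K := K) hp M.toCoxeterSystem p
  refine SetC.exists_pow_mem R C hS (TT_comm hp) (chAdd hp M.toCoxeterSystem p) hq (fun x hx a ha => ?_) ?_ ?_
  · obtain ⟨j, hj⟩ := hSq x hx
    refine ⟨j, ?_⟩
    rw [← ch_pow_fin hp p ha (hS hx), hj, ← pow_zero x, ch_pow_fin hp p ha (hS hx), pow_zero]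
  · rw [GG_top hp M.toCoxeterSystem]
    exact Subgroup.mem_top g
  · rw [Subgroup.mem_centralizer_iff]
    exact fun x hx => (hg x hx).symm

/-- a level of all the elements of a finite subset of the torus -/
theorem exists_TT_set (hk : LocFin k) {S : Set ↥(D.group k)} (hS : S.Finite) (hST : S ⊆ TT D k) :
    ∃ E : Lev k, ∀ E' : Lev k, E ≤ E' → ∀ t ∈ S, ∃ t' ∈ TT D ↥E'.1, emb hp.inList E'.1.subtype t' = t := by
  induction S, hS using Set.Finite.induction_on with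
  | empty =>
    obtain ⟨E⟩ := nonempty_lev hk
    exact ⟨E, fun _ _ t ht => absurd ht (Set.notMem_empty t)⟩
  | @insert a S _ _ ih =>
    obtain ⟨E, hE⟩ := ih (fun t ht => hST (Set.mem_insert_of_mem _ ht))
    obtain ⟨E', hE'⟩ := exists_TT hp hk (hST (Set.mem_insert _ _))
    obtain ⟨E'', h1, h2⟩ := dir_lev hk E E'
    refine ⟨E'', fun E₃ h3 t ht => ?_⟩
    rcases Set.mem_insert_iff.1 ht with rfl | ht
    · exact hE' E₃ (le_trans h2 h3)
    · exact hE E₃ (le_trans h1 h3) t ht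

theorem pow_mem_set_finite (hk : LocFin k) (p : ℕ) [Fact p.Prime] [CharP k p]
    {S : Set ↥(D.group k)} (hSf : S.Finite) (hS : S ⊆ TT D k) {q : ℕ} (hq : q.Prime)
    (hSq : ∀ x ∈ S, ∃ j : ℕ, x ^ q ^ j = 1) {g : ↥(D.group k)} (hg : ∀ x ∈ S, g * x = x * g) :
    ∃ m : ℕ, g ^ q ^ m ∈ SetC.MMs M.toCoxeterSystem hp.isCartan (XX D l k) (ch hp) S ⊔ TT D k := by
  obtain ⟨E1, h1⟩ := exists_TT_set hp hk hSf hS
  obtain ⟨E2, h2⟩ := exists_level hp hk g
  obtain ⟨E, h3, h4⟩ := dir_lev hk E1 E2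
  obtain ⟨g', rfl⟩ := h2 E h4
  have := charP_lev p E.1
  set f := emb hp.inList E.1.subtype with hf
  have hinj : Function.Injective f := emb_injective hp.inList _
  -- the elements of the level
  let S' : Set ↥(D.group ↥E.1) := {t | t ∈ TT D ↥E.1 ∧ f t ∈ S}
  obtain ⟨m, hm⟩ := pow_mem_set_fin (K := ↥E.1) hp p (S := S') (fun t ht => ht.1) hq (fun t ht => by
    obtain ⟨j, hj⟩ := hSq _ ht.2
    refine ⟨j, hinj ?_⟩
    rw [map_pow, map_one]
    exact hj) (g := g') (fun t ht => by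
    apply hinj
    rw [map_mul, map_mul]
    exact hg _ ht.2)
  refine ⟨m, ?_⟩
  have h5 : (SetC.MMs M.toCoxeterSystem hp.isCartan (XX D l ↥E.1) (ch hp) S' ⊔ TT D ↥E.1) ≤
      (SetC.MMs M.toCoxeterSystem hp.isCartan (XX D l k) (ch hp) S ⊔ TT D k).comap f := by
    refine sup_le (RGD.Sup_le fun a ha => ?_) ?_
    · obtain ⟨s, hs, rfl⟩ := (isRoot_iff hp M.toCoxeterSystem a).1 ha.1
      intro y hy
      refine Subgroup.mem_sup_left (RGD.le_Sup (S := SetC.Sxs M.toCoxeterSystem hp.isCartan (ch hp) S) ?_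
        (emb_X hp _ M.toCoxeterSystem ha.1 ⟨y, hy, rfl⟩))
      refine ⟨ha.1, fun x hx => ?_⟩
      obtain ⟨t', ht', rfl⟩ := h1 E h3 x hx
      rw [emb_ch hp _ hs ht', ha.2 t' ⟨ht', hx⟩, map_one]
    · intro y hy
      exact Subgroup.mem_sup_right (emb_T hp _ ⟨y, hy, rfl⟩)
  have h6 := h5 hm
  rw [Subgroup.mem_comap, map_pow] at h6
  exact h6

/-- **`g` commutes with the toral elements of `S`, of `q`-power order: some `g ^ q ^ m` lies in
`⟨X_a : χ_a = 1 on S⟩ T`.** -/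
theorem pow_mem_set (hk : LocFin k) (p : ℕ) [Fact p.Prime] [CharP k p]
    {S : Set ↥(D.group k)} (hS : S ⊆ TT D k) {q : ℕ} (hq : q.Prime)
    (hSq : ∀ x ∈ S, ∃ j : ℕ, x ^ q ^ j = 1) {g : ↥(D.group k)} (hg : ∀ x ∈ S, g * x = x * g) :
    ∃ m : ℕ, g ^ q ^ m ∈ SetC.MMs M.toCoxeterSystem hp.isCartan (XX D l k) (ch hp) S ⊔ TT D k := by
  classical
  have := finite_W hp M.toCoxeterSystem
  have hfin := RGD.finite_roots (cs := M.toCoxeterSystem) (h := hp.isCartan)
  -- a finite subset with the same roots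
  have h1 : ∀ a : Fin l → ℤ, ∃ x : ↥(D.group k), (∃ y ∈ S, ch hp a y ≠ 1) → x ∈ S ∧ ch hp a x ≠ 1 := by
    intro a
    by_cases h : ∃ y ∈ S, ch hp a y ≠ 1
    · obtain ⟨y, hy, hy'⟩ := h
      exact ⟨y, fun _ => ⟨hy, hy'⟩⟩
    · exact ⟨1, fun h' => absurd h' h⟩
  choose F hF using h1
  set S' : Set ↥(D.group k) := S ∩ (F '' {a | IsRoot M.toCoxeterSystem hp.isCartan a}) with hS'
  obtain ⟨m, hm⟩ := pow_mem_set_finite hp hk p (S := S') ((hfin.image F).subset Set.inter_subset_right)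
    (fun x hx => hS hx.1) hq (fun x hx => hSq x hx.1) (g := g) (fun x hx => hg x hx.1)
  refine ⟨m, ?_⟩
  have h2 : SetC.Sxs M.toCoxeterSystem hp.isCartan (ch hp) S' ⊆
      SetC.Sxs (F := k) M.toCoxeterSystem hp.isCartan (ch hp) S := by
    rintro a ⟨ha, h3⟩
    refine ⟨ha, ?_⟩
    by_contra hcon
    push Not at hcon
    obtain ⟨h4, h5⟩ := hF a hcon
    exact h5 (h3 _ ⟨h4, a, ha, rfl⟩)
  have h3 : SetC.MMs M.toCoxeterSystem hp.isCartan (XX D l k) (ch hp) S' ≤
      SetC.MMs M.toCoxeterSystem hp.isCartan (XX D l k) (ch hp) S :=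
    RGD.Sup_le fun a ha => RGD.le_Sup (h2 ha)
  exact (sup_le_sup_right h3 _ : _ ≤ _) hm

end Cfsg.Agent.H167.EX
end

-- part: H167/EX/OneB
section
prune_inst 0x46020044400000000180002300020044600009000200801c82009440488e722090021218c801000000aaa440030000811000050000000000000000001180080000002062140a000600096000004000000000000000000000000000000000004000000000
set_option linter.all false
open scoped Cfsg.Agent.FastGrp

-- part: H167/EX/Red
section
/-!
# An odd group normalised by a torus subgroup of exponent 4 (helper167, S4312, exceptional groups)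

`A ≤ T`, `T` commutative, `R` solvable of odd order normalised by `A`, `R ≰ T`, every proper `A`-invariant subgroup of
`R` lies in `T`; `y ∈ A`, `y ^ 4 = 1`, `y ^ 2` does not centralise `R`.

* `comm_mem` : `[R, R] ≤ T`;
* `exists_pow` : for `x ∈ A`, `x ^ 4 = 1`, some `x (y ^ j)⁻¹` centralises `R`;
* `central` : `R ∩ T` is central in `R`.
-/

set_option autoImplicit false
set_option linter.unusedSectionVars false

namespace Cfsg.Agent.H167.EX.Red

open Subgroup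

variable {G : Type*} [Group G] {T A R : Subgroup G}

/-- the hypotheses -/
structure Hyp (T A R : Subgroup G) : Prop where
  comm : ∀ s ∈ T, ∀ t ∈ T, s * t = t * s
  le : A ≤ T
  fin : Finite R
  odd : Odd (Nat.card R)
  sol : Group.IsSolvable R
  norm : ∀ a ∈ A, ∀ v ∈ R, a * v * a⁻¹ ∈ R
  min : ∀ R0 : Subgroup G, R0 ≤ R → R0 ≠ R → (∀ a ∈ A, ∀ v ∈ R0, a * v * a⁻¹ ∈ R0) → R0 ≤ T
  not_le : ¬ R ≤ T

theorem mem_of_sq {R T : Subgroup G} (_hf : Finite R) (ho : Odd (Nat.card R)) {v : G} (hv : v ∈ R) (h : v ^ 2 ∈ T) :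
    v ∈ T := by
  obtain ⟨m, hm⟩ := ho
  have h1 : v ^ Nat.card R = 1 := by
    have := congrArg Subtype.val (pow_card_eq_one' (x := (⟨v, hv⟩ : R)))
    rwa [Subgroup.coe_pow] at this
  have h2 : v = (v ^ 2) ^ (m + 1) := by
    rw [← pow_mul, show 2 * (m + 1) = (2 * m + 1) + 1 by ring, ← hm, pow_succ, h1, one_mul]
  rw [h2]
  exact pow_mem h _

theorem comm_of_sq {R : Subgroup G} (hf : Finite R) (ho : Odd (Nat.card R)) {v c : G} (hv : v ∈ R)
    (h : v ^ 2 * c = c * v ^ 2) : v * c = c * v := by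
  have h1 : v ∈ Subgroup.centralizer {c} := mem_of_sq hf ho hv (Subgroup.mem_centralizer_singleton_iff.2 h)
  exact Subgroup.mem_centralizer_singleton_iff.1 h1

theorem eq_one_of_sq {R : Subgroup G} (hf : Finite R) (ho : Odd (Nat.card R)) {c : G} (hc : c ∈ R) (h : c ^ 2 = 1) :
    c = 1 := by
  have h1 : c ∈ (⊥ : Subgroup G) := mem_of_sq hf ho hc (by rw [h]; exact one_mem _)
  exact Subgroup.mem_bot.1 h1

variable (H : Hyp T A R)

include H

theorem dich {a : G} (ha : a ∈ A) : (∀ v ∈ R, a * v = v * a) ∨ ∀ v ∈ R, a * v = v * a → v ∈ T := by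
  by_cases h : R ⊓ Subgroup.centralizer {a} = R
  · left
    intro v hv
    rw [← h] at hv
    exact (Subgroup.mem_centralizer_singleton_iff.1 hv.2).symm
  · right
    intro v hv hc
    refine H.min _ inf_le_left h (fun b hb w hw => ⟨H.norm b hb w hw.1, ?_⟩)
      ⟨hv, Subgroup.mem_centralizer_singleton_iff.2 hc.symm⟩
    have h1 := Subgroup.mem_centralizer_singleton_iff.1 hw.2
    have h2 := H.comm a (H.le ha) b (H.le hb)
    have h3 := H.comm a (H.le ha) b⁻¹ (inv_mem (H.le hb))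
    show _ ∈ Subgroup.centralizer {a}
    rw [Subgroup.mem_centralizer_singleton_iff]
    calc b * w * b⁻¹ * a = b * w * (a * b⁻¹) := by rw [h3]; group
      _ = b * (w * a) * b⁻¹ := by group
      _ = (b * a) * w * b⁻¹ := by rw [h1]; group
      _ = a * (b * w * b⁻¹) := by rw [← h2]; group

theorem comm_mem {v w : G} (hv : v ∈ R) (hw : w ∈ R) : v * w * v⁻¹ * w⁻¹ ∈ T := by
  have := H.fin
  have := H.sol
  have hnt : Nontrivial R := by
    rw [Subgroup.nontrivial_iff_ne_bot]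
    rintro h
    exact H.not_le (h ▸ bot_le)
  have h1 : commutator R < ⊤ := Group.IsSolvable.commutator_lt_top_of_nontrivial R
  have h2 : ⁅R, R⁆ ≤ R := Subgroup.commutator_le_self R
  have h3 : ⁅R, R⁆ ≠ R := by
    intro h
    apply h1.ne
    rw [eq_top_iff]
    intro x _
    have h4 : (x : G) ∈ (commutator R).map R.subtype := by
      rw [_root_.commutator_def, Subgroup.map_commutator, ← MonoidHom.range_eq_map, Subgroup.range_subtype, h]
      exact x.2
    obtain ⟨y, hy, e⟩ := h4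
    have : y = x := Subtype.ext e
    rwa [← this]
  refine H.min _ h2 h3 (fun a ha u hu => ?_) (Subgroup.commutator_mem_commutator hv hw)
  have h5 : (MulAut.conj a).toMonoidHom u ∈ (⁅R, R⁆).map (MulAut.conj a).toMonoidHom := ⟨u, hu, rfl⟩
  rw [Subgroup.map_commutator] at h5
  have h6 : R.map (MulAut.conj a).toMonoidHom ≤ R := by
    rintro _ ⟨x, hx, rfl⟩
    exact H.norm a ha x hx
  exact Subgroup.commutator_mono h6 h6 h5

/-- `a ∈ A` with `a ^ 2` centralising `R` centralises or inverts `R` modulo `T` -/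
theorem inv_mem_of {a : G} (ha : a ∈ A) (h2 : ∀ v ∈ R, a ^ 2 * v = v * a ^ 2) :
    (∀ v ∈ R, a * v = v * a) ∨ ∀ v ∈ R, v * (a * v * a⁻¹) ∈ T := by
  rcases dich H ha with h | h
  · exact Or.inl h
  · right
    intro v hv
    set v' := a * v * a⁻¹ with hv'
    have hv'R : v' ∈ R := H.norm a ha v hv
    set c := v * v' * v⁻¹ * v'⁻¹ with hc
    have hcT : c ∈ T := comm_mem H hv hv'R
    have hcR : c ∈ R := mul_mem (mul_mem (mul_mem hv hv'R) (inv_mem hv)) (inv_mem hv'R)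
    have hac : a * c * a⁻¹ = c := by rw [H.comm a (H.le ha) c hcT]; group
    have haa : a * v' * a⁻¹ = v := by
      rw [hv']
      have := h2 v hv
      calc a * (a * v * a⁻¹) * a⁻¹ = a ^ 2 * v * (a ^ 2)⁻¹ := by rw [pow_two]; group
        _ = v := by rw [this]; group
    have hu : a * (v * v') * a⁻¹ = v' * v := by
      calc a * (v * v') * a⁻¹ = (a * v * a⁻¹) * (a * v' * a⁻¹) := by group
        _ = v' * v := by rw [haa]
    have hcu : v * v' = c * (v' * v) := by rw [hc]; group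
    have hc2 : c ^ 2 = 1 := by
      have e1 : a * (a * (v * v') * a⁻¹) * a⁻¹ = v * v' := by
        rw [hu]
        calc a * (v' * v) * a⁻¹ = (a * v' * a⁻¹) * (a * v * a⁻¹) := by group
          _ = v * v' := by rw [haa]
      have e2 : a * (a * (v * v') * a⁻¹) * a⁻¹ = c⁻¹ * (c⁻¹ * (v * v')) := by
        have e3 : a * (v * v') * a⁻¹ = c⁻¹ * (v * v') := by rw [hu, hcu, inv_mul_cancel_left]
        have e4 : a * c⁻¹ * a⁻¹ = c⁻¹ := by
          calc a * c⁻¹ * a⁻¹ = (a * c * a⁻¹)⁻¹ := by group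
            _ = c⁻¹ := by rw [hac]
        calc a * (a * (v * v') * a⁻¹) * a⁻¹ = a * (c⁻¹ * (v * v')) * a⁻¹ := by rw [e3]
          _ = (a * c⁻¹ * a⁻¹) * (a * (v * v') * a⁻¹) := by group
          _ = c⁻¹ * (c⁻¹ * (v * v')) := by rw [e4, e3]
      rw [e1] at e2
      have e5 : c ^ 2 * (v * v') = v * v' := by
        conv_lhs => rw [e2]
        rw [pow_two]; group
      exact mul_eq_right.1 e5
    have hc1 : c = 1 := eq_one_of_sq H.fin H.odd hcR hc2
    refine h _ (mul_mem hv hv'R) ?_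
    have e6 : a * (v * v') * a⁻¹ = v * v' := by rw [hu, hcu, hc1, one_mul]
    exact mul_inv_eq_iff_eq_mul.1 e6

theorem mul_cent {a b : G} (ha : a ∈ A) (hb : b ∈ A) (h1 : ∀ v ∈ R, v * (a * v * a⁻¹) ∈ T)
    (h2 : ∀ v ∈ R, v * (b * v * b⁻¹) ∈ T) (h : ∀ v ∈ R, (a * b) ^ 2 * v = v * (a * b) ^ 2) :
    ∀ v ∈ R, a * b * v = v * (a * b) := by
  rcases inv_mem_of H (mul_mem ha hb) h with h3 | h3
  · exact h3
  · exfalso
    apply H.not_le
    intro v hv
    have h4 := h2 v hv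
    have h5 := h1 v⁻¹ (inv_mem hv)
    have h6 := h3 v hv
    set θ := v * (b * v * b⁻¹) with hθ
    set θ' := v⁻¹ * (a * v⁻¹ * a⁻¹) with hθ'
    have hat : a * θ * a⁻¹ = θ := by rw [H.comm a (H.le ha) θ h4]; group
    have e1 : b * v * b⁻¹ = v⁻¹ * θ := by rw [hθ]; group
    have e2 : a * v⁻¹ * a⁻¹ = v * θ' := by rw [hθ']; group
    have e3 : a * b * v * (a * b)⁻¹ = v * θ' * θ := by
      calc a * b * v * (a * b)⁻¹ = a * (b * v * b⁻¹) * a⁻¹ := by group
        _ = (a * v⁻¹ * a⁻¹) * (a * θ * a⁻¹) := by rw [e1]; group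
        _ = v * θ' * θ := by rw [e2, hat]
    rw [e3] at h6
    have e4 : v ^ 2 = v * (v * θ' * θ) * θ⁻¹ * θ'⁻¹ := by rw [pow_two]; group
    refine mem_of_sq H.fin H.odd hv ?_
    rw [e4]
    exact mul_mem (mul_mem h6 (inv_mem h4)) (inv_mem h5)

variable {y : G} (hy : y ∈ A) (hy4 : y ^ 4 = 1) (hyR : ¬ ∀ v ∈ R, y ^ 2 * v = v * y ^ 2)

include hy hy4 hyR

theorem inv_y {v : G} (hv : v ∈ R) : v * (y ^ 2 * v * (y ^ 2)⁻¹) ∈ T := by
  rcases inv_mem_of H (pow_mem hy 2) (fun v _ => by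
    rw [← pow_mul, show 2 * 2 = 4 by norm_num, hy4, one_mul, mul_one]) with h | h
  · exact absurd h hyR
  · exact h v hv

/-- **every `x ∈ A`, `x ^ 4 = 1`, agrees on `R` with a power of `y`.** -/
theorem exists_pow {x : G} (hx : x ∈ A) (hx4 : x ^ 4 = 1) : ∃ j : ℕ, ∀ v ∈ R, x * (y ^ j)⁻¹ * v = v * (x * (y ^ j)⁻¹) := by
  have hxy : x * y = y * x := H.comm x (H.le hx) y (H.le hy)
  have hc : Commute x y := hxy
  have hz := fun v hv => inv_y H hy hy4 hyR (v := v) hv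
  have hy2 : (y ^ 2)⁻¹ = y ^ 2 := by
    rw [inv_eq_iff_mul_eq_one, ← pow_add]; exact hy4
  have hy3 : (y ^ 3)⁻¹ = y := by
    rw [inv_eq_iff_mul_eq_one, ← pow_succ]; exact hy4
  have hx22 : ∀ v ∈ R, (x ^ 2) ^ 2 * v = v * (x ^ 2) ^ 2 := fun v _ => by
    rw [← pow_mul, show 2 * 2 = 4 by norm_num, hx4, one_mul, mul_one]
  rcases inv_mem_of H (pow_mem hx 2) hx22 with h | h
  · -- `x ^ 2` centralises `R`
    rcases inv_mem_of H hx h with h1 | h1
    · exact ⟨0, fun v hv => by rw [pow_zero, inv_one, mul_one]; exact h1 v hv⟩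
    · refine ⟨2, fun v hv => ?_⟩
      rw [hy2]
      refine mul_cent H hx (pow_mem hy 2) h1 hz (fun w hw => ?_) v hv
      have e : (x * y ^ 2) ^ 2 = x ^ 2 := by
        rw [(hc.pow_right 2).mul_pow, ← pow_mul, show 2 * 2 = 4 by norm_num, hy4, mul_one]
      rw [e]
      exact h w hw
  · -- `x ^ 2` inverts
    have h1 := mul_cent H (pow_mem hx 2) (pow_mem hy 2) h hz (fun w _ => by
      have e : (x ^ 2 * y ^ 2) ^ 2 = 1 := by
        rw [(hc.pow_pow 2 2).mul_pow, ← pow_mul, ← pow_mul, show 2 * 2 = 4 by norm_num, hx4, hy4, mul_one]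
      rw [e, one_mul, mul_one])
    have h2 : ∀ v ∈ R, (x * y) ^ 2 * v = v * (x * y) ^ 2 := by
      rw [hc.mul_pow]
      exact h1
    rcases inv_mem_of H (mul_mem hx hy) h2 with h3 | h3
    · refine ⟨3, fun v hv => ?_⟩
      rw [hy3]
      exact h3 v hv
    · refine ⟨1, fun v hv => ?_⟩
      have h4 := mul_cent H (mul_mem hx hy) (pow_mem hy 2) h3 hz (fun w hw => by
        have e : (x * y * y ^ 2) ^ 2 = (x * y) ^ 2 := by
          have hc2 : Commute (x * y) (y ^ 2) := Commute.mul_left (hc.pow_right 2) ((Commute.refl y).pow_right 2)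
          rw [hc2.mul_pow, ← pow_mul, show 2 * 2 = 4 by norm_num, hy4, mul_one]
        rw [e]
        exact h2 w hw) v hv
      have e : x * (y ^ 1)⁻¹ = x * y * y ^ 2 := by
        rw [pow_one]
        have : y⁻¹ = y * y ^ 2 := by
          rw [inv_eq_iff_mul_eq_one, ← mul_assoc, ← pow_two, ← pow_add]
          exact hy4
        rw [this]; group
      rw [e]
      exact h4

/-- **`R ∩ T` is central in `R`.** -/
theorem central {c v : G} (hc : c ∈ R) (hcT : c ∈ T) (hv : v ∈ R) : v * c = c * v := by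
  set z := y ^ 2 with hz
  have hzT : z ∈ T := H.le (pow_mem hy 2)
  have h1 : v * c * v⁻¹ ∈ T := by
    have h2 := mul_mem (comm_mem H hv hc) hcT
    have e : v * c * v⁻¹ * c⁻¹ * c = v * c * v⁻¹ := by group
    rwa [e] at h2
  have h3 : z * (v * c * v⁻¹) * z⁻¹ = v * c * v⁻¹ := by rw [H.comm z hzT _ h1]; group
  set θ := v * (z * v * z⁻¹) with hθ
  have hθT : θ ∈ T := inv_y H hy hy4 hyR hv
  have e1 : z * v * z⁻¹ = v⁻¹ * θ := by rw [hθ]; group
  have e2 : z * c * z⁻¹ = c := by rw [H.comm z hzT c hcT]; group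
  have e3 : θ * c * θ⁻¹ = c := by rw [H.comm θ hθT c hcT]; group
  have e4 : z * (v * c * v⁻¹) * z⁻¹ = v⁻¹ * c * v := by
    calc z * (v * c * v⁻¹) * z⁻¹ = (z * v * z⁻¹) * (z * c * z⁻¹) * (z * v * z⁻¹)⁻¹ := by group
      _ = v⁻¹ * (θ * c * θ⁻¹) * v := by rw [e1, e2]; group
      _ = v⁻¹ * c * v := by rw [e3]
  rw [e4] at h3
  refine comm_of_sq H.fin H.odd hv ?_
  calc v ^ 2 * c = v * (v * c * v⁻¹) * v := by rw [pow_two]; group
    _ = v * (v⁻¹ * c * v) * v := by rw [h3]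
    _ = c * v ^ 2 := by rw [pow_two]; group

end Cfsg.Agent.H167.EX.Red
end

-- part: H167/EX/OneA
section
/-!
# Subgroups invariant under the toral 2-group (helper167, S4312, exceptional groups)
-/

set_option autoImplicit false
set_option linter.unusedSectionVars false

namespace Cfsg.Agent.H167.EX

open CoxeterSystem Cfsg Cfsg.Lie Cfsg.Lie.ChevalleyDatum
open Cfsg.Agent.ChevalleyStructure Cfsg.Agent.ChevalleyStructure.Elts Cfsg.Agent.ChevalleyStructure.CoxeterGeom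
  Cfsg.Agent.ChevalleyStructure.CoxeterGeomTypes Cfsg.Agent.ChevalleyStructure.NPerm
open Cfsg.Agent.Tits.Roots Cfsg.Agent.Tits.Core Cfsg.Agent.Nodes Cfsg.Agent.Nodes.Reps Cfsg.Agent.Nodes.BNOf
  Cfsg.Agent.Nodes.RGDChev Cfsg.Agent.Nodes.Bruhat Cfsg.Agent.Nodes.NormalForm
open Cfsg.Agent.KFacts.RgdField Cfsg.Agent.KFacts.RgdChevCoord
open Cfsg.Agent.BpExc Cfsg.Agent.BpExc.TorCent Cfsg.Agent.BpExc.TorChev Cfsg.Agent.BpExc.Tow
  Cfsg.Agent.BpExc.TowChev Cfsg.Agent.BpExc.Fr Cfsg.Agent.BpExc.Pair Cfsg.Agent.BpExc.LangFr Cfsg.Agent.GpExc.Field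
  Cfsg.Agent.BpExc.TorAll
open Cfsg.Agent.H469.Exc Cfsg.Agent.H469.Exc.SigFr
open Cfsg.Agent.Nodes.RGDFoldSL
open Cfsg.Agent.ChevalleyStructure.SL2Hom (up lo mem_closure_SL2)
open Module

universe u v

section SL

variable {k : Type u} [Field k]

theorem prop_of {p q r p1 q1 r1 : k} (e1 : p1 * q = p * q1) (e2 : p1 * r = p * r1) (e3 : q1 * r = q * r1)
    (h : ¬ (p = 0 ∧ q = 0 ∧ r = 0)) : ∃ c : k, p1 = c * p ∧ q1 = c * q ∧ r1 = c * r := by
  by_cases hp : p = 0
  · by_cases hq : q = 0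
    · have hr : r ≠ 0 := fun hr => h ⟨hp, hq, hr⟩
      refine ⟨r1 / r, ?_, ?_, ?_⟩
      · field_simp; linear_combination e2
      · field_simp; linear_combination e3
      · field_simp
    · refine ⟨q1 / q, ?_, ?_, ?_⟩
      · field_simp; linear_combination e1
      · field_simp
      · field_simp; linear_combination -e3
  · refine ⟨p1 / p, ?_, ?_, ?_⟩
    · field_simp
    · field_simp; linear_combination -e1
    · field_simp; linear_combination -e2

/-- **Centralisers of noncentral elements of `SL₂` are commutative.** -/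
theorem cent_abel {Z A B : SL k} (hA : A * Z = Z * A) (hB : B * Z = Z * B) (hZ : ¬ ∀ P : SL k, Z * P = P * Z) :
    A * B = B * A := by
  have hne : ¬ (Z.1 0 1 = 0 ∧ Z.1 1 0 = 0 ∧ Z.1 0 0 - Z.1 1 1 = 0) := by
    rintro ⟨h1, h2, h3⟩
    apply hZ
    intro P
    refine sl_ext ?_ ?_ ?_ ?_
    · rw [mul00, mul00, h1, h2]; ring
    · rw [mul01, mul01, h1]; linear_combination P.1 0 1 * h3
    · rw [mul10, mul10, h2]; linear_combination -P.1 1 0 * h3
    · rw [mul11, mul11, h1, h2]; ring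
  have key : ∀ A : SL k, A * Z = Z * A → ∃ c : k, A.1 0 1 = c * Z.1 0 1 ∧ A.1 1 0 = c * Z.1 1 0 ∧
      A.1 0 0 - A.1 1 1 = c * (Z.1 0 0 - Z.1 1 1) := by
    intro A hA
    have a1 : (A * Z).1 0 0 = (Z * A).1 0 0 := by rw [hA]
    have a2 : (A * Z).1 0 1 = (Z * A).1 0 1 := by rw [hA]
    have a3 : (A * Z).1 1 0 = (Z * A).1 1 0 := by rw [hA]
    rw [mul00, mul00] at a1
    rw [mul01, mul01] at a2
    rw [mul10, mul10] at a3
    refine prop_of ?_ ?_ ?_ hne
    · linear_combination a1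
    · linear_combination -a2
    · linear_combination a3
  obtain ⟨c, c1, c2, c3⟩ := key A hA
  obtain ⟨e, e1, e2, e3⟩ := key B hB
  refine sl_ext ?_ ?_ ?_ ?_
  · rw [mul00, mul00, c1, c2, e1, e2]; ring
  · rw [mul01, mul01, c1, e1]; linear_combination e * Z.1 0 1 * c3 - c * Z.1 0 1 * e3
  · rw [mul10, mul10, c2, e2]; linear_combination -e * Z.1 1 0 * c3 + c * Z.1 1 0 * e3
  · rw [mul11, mul11, c1, c2, e1, e2]; ring

theorem sq_of_central {Z : SL k} (h : ∀ P : SL k, Z * P = P * Z) : Z ^ 2 = 1 := sq_of_comm (h _) (h _)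

theorem eq_one_of_odd {G : Type*} [Group G] {g : G} (h2 : g ^ 2 = 1) {m : ℕ} (hm : Odd m) (h : g ^ m = 1) : g = 1 := by
  obtain ⟨j, rfl⟩ := hm
  rw [pow_add, pow_mul, h2, one_pow, one_mul, pow_one] at h
  exact h

/-- elements of odd order with commutator commuting with them modulo the centre -/
theorem sl_comm {A B : SL k} {m : ℕ} (hm : Odd m) (hA : A ^ m = 1) (hB : B ^ m = 1)
    (h1 : ∀ P : SL k, (A * B * A⁻¹ * B⁻¹) * A * (A * B * A⁻¹ * B⁻¹)⁻¹ * A⁻¹ * P =
      P * ((A * B * A⁻¹ * B⁻¹) * A * (A * B * A⁻¹ * B⁻¹)⁻¹ * A⁻¹))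
    (h2 : ∀ P : SL k, (A * B * A⁻¹ * B⁻¹) * B * (A * B * A⁻¹ * B⁻¹)⁻¹ * B⁻¹ * P =
      P * ((A * B * A⁻¹ * B⁻¹) * B * (A * B * A⁻¹ * B⁻¹)⁻¹ * B⁻¹)) : A * B = B * A := by
  have gen : ∀ (Z C : SL k), C ^ m = 1 → (∀ P : SL k, Z * C * Z⁻¹ * C⁻¹ * P = P * (Z * C * Z⁻¹ * C⁻¹)) →
      C * Z = Z * C := by
    intro Z C hC h
    set E := Z * C * Z⁻¹ * C⁻¹ with hE
    have hE2 := sq_of_central h
    have e1 : Z * C * Z⁻¹ = E * C := by rw [hE]; group
    have e2 : (Z * C * Z⁻¹) ^ m = 1 := by rw [conj_pow, hC, mul_one, mul_inv_cancel]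
    have hc : Commute E C := h C
    rw [e1, hc.mul_pow, hC, mul_one] at e2
    have hE1 : E = 1 := eq_one_of_odd hE2 hm e2
    rw [hE1, one_mul] at e1
    exact (mul_inv_eq_iff_eq_mul.1 e1).symm
  set Z := A * B * A⁻¹ * B⁻¹ with hZ
  have hAZ := gen Z A hA h1
  have hBZ := gen Z B hB h2
  by_cases hc : ∀ P : SL k, Z * P = P * Z
  · have hZ2 := sq_of_central hc
    have e1 : A * B * A⁻¹ = Z * B := by rw [hZ]; group
    have e2 : (A * B * A⁻¹) ^ m = 1 := by rw [conj_pow, hB, mul_one, mul_inv_cancel]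
    have hcm : Commute Z B := hc B
    rw [e1, hcm.mul_pow, hB, mul_one] at e2
    have hZ1 : Z = 1 := eq_one_of_odd hZ2 hm e2
    rw [hZ1, one_mul] at e1
    exact mul_inv_eq_iff_eq_mul.1 e1
  · exact cent_abel hAZ hBZ hc

end SL

section Chev

variable {D : ChevalleyDatum} {l : ℕ} {M : CoxeterMatrix (Fin l)} (hp : IsType D l M) {k : Type u} [Field k]
  {s : ℕ} (hs : s < D.nroots)

/-- `ph` is injective -/
theorem ph_inj [IsAlgClosed k] (h2 : (2 : k) ≠ 0) (p : ℕ) [Fact p.Prime] [CharP k p] (hk : LocFin k)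
    (he : ∃ r < D.nroots, HMatDiagAll.expo D s r = 1) {A : SL k} (hA : ph hp k hs A = 1) : A = 1 := by
  obtain ⟨P, hP⟩ := exists_tri h2 A
  have hB : ph hp k hs (P⁻¹ * A * P) = 1 := by
    rw [map_mul, map_mul, hA, mul_one, ← map_mul, inv_mul_cancel, map_one]
  obtain ⟨h0, hB1⟩ := tri_eq hP
  set x := (P⁻¹ * A * P).1 0 0 with hx
  set y := (x)⁻¹ * (P⁻¹ * A * P).1 0 1 with hy
  rw [hB1, map_mul, ph_up] at hB
  have hy0 : y = 0 := by
    refine xs_TT hp hs p hk ?_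
    rw [eq_inv_of_mul_eq_one_right hB]
    exact inv_mem (ph_hS_mem hp hs h0)
  rw [hy0] at hB hB1
  obtain ⟨r, hr, he⟩ := he
  have hx1 : x = 1 := by
    have h3 : xs hp.inList s (0 : k) = 1 := by rw [← ph_up hp hs, up_zero, map_one]
    rw [h3, mul_one] at hB
    have h4 := ch_ph_hS hp hs p hk h0 hr
    rw [hB, ch_one hp p hk hr, he, zpow_one] at h4
    exact h4.symm
  have h5 : P⁻¹ * A * P = 1 := by
    rw [hB1, hx1, up_zero, mul_one]
    apply Subtype.ext
    rw [coe_hS one_ne_zero]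
    ext a b
    fin_cases a <;> fin_cases b <;> simp
  have h6 : A = P * (P⁻¹ * A * P) * P⁻¹ := by group
  rw [h6, h5, mul_one, mul_inv_cancel]

/-- the pairs `(A, g)`, `g ∈ ph A · C(ph (SL₂))` -/
def RR (k : Type u) [Field k] {s : ℕ} (hs : s < D.nroots) : Subgroup (SL k × ↥(D.group k)) where
  carrier := {x | (ph hp k hs x.1)⁻¹ * x.2 ∈ Subgroup.centralizer ((ph hp k hs).range : Set ↥(D.group k))}
  one_mem' := by
    show (ph hp k hs 1)⁻¹ * 1 ∈ Subgroup.centralizer ((ph hp k hs).range : Set ↥(D.group k))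
    rw [map_one, inv_one, one_mul]
    exact one_mem _
  mul_mem' := by
    rintro ⟨A, g⟩ ⟨B, h⟩ h1 h2
    have h1' : (ph hp k hs A)⁻¹ * g ∈ Subgroup.centralizer ((ph hp k hs).range : Set ↥(D.group k)) := h1
    have h2' : (ph hp k hs B)⁻¹ * h ∈ Subgroup.centralizer ((ph hp k hs).range : Set ↥(D.group k)) := h2
    have h3 := Subgroup.mem_centralizer_iff.1 h1' _ ⟨B⁻¹, rfl⟩
    show (ph hp k hs (A * B))⁻¹ * (g * h) ∈ Subgroup.centralizer ((ph hp k hs).range : Set ↥(D.group k))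
    have e : (ph hp k hs (A * B))⁻¹ * (g * h) = ((ph hp k hs A)⁻¹ * g) * ((ph hp k hs B)⁻¹ * h) := by
      calc (ph hp k hs (A * B))⁻¹ * (g * h) = (ph hp k hs B)⁻¹ * ((ph hp k hs A)⁻¹ * g) * h := by
            rw [map_mul]; group
        _ = ((ph hp k hs A)⁻¹ * g) * (ph hp k hs B)⁻¹ * h := by rw [← map_inv (ph hp k hs) B, h3]
        _ = _ := by group
    rw [e]
    exact mul_mem h1' h2'
  inv_mem' := by
    rintro ⟨A, g⟩ h1
    have h1' : (ph hp k hs A)⁻¹ * g ∈ Subgroup.centralizer ((ph hp k hs).range : Set ↥(D.group k)) := h1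
    have h3 := Subgroup.mem_centralizer_iff.1 (inv_mem h1') _ ⟨A, rfl⟩
    show (ph hp k hs A⁻¹)⁻¹ * g⁻¹ ∈ Subgroup.centralizer ((ph hp k hs).range : Set ↥(D.group k))
    have e : (ph hp k hs A⁻¹)⁻¹ * g⁻¹ = ((ph hp k hs A)⁻¹ * g)⁻¹ := by
      calc (ph hp k hs A⁻¹)⁻¹ * g⁻¹ = ph hp k hs A * ((ph hp k hs A)⁻¹ * g)⁻¹ * (ph hp k hs A)⁻¹ := by
            rw [map_inv]; group
        _ = _ := by rw [h3]; group
    rw [e]
    exact inv_mem h1'

theorem mem_RR {A : SL k} {g : ↥(D.group k)} : (A, g) ∈ RR hp k hs ↔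
    (ph hp k hs A)⁻¹ * g ∈ Subgroup.centralizer ((ph hp k hs).range : Set ↥(D.group k)) := Iff.rfl

theorem RR_mul {A B : SL k} {g h : ↥(D.group k)} (h1 : (A, g) ∈ RR hp k hs) (h2 : (B, h) ∈ RR hp k hs) :
    (A * B, g * h) ∈ RR hp k hs := by
  rw [← Prod.mk_mul_mk]
  exact mul_mem h1 h2

theorem RR_inv {A : SL k} {g : ↥(D.group k)} (h1 : (A, g) ∈ RR hp k hs) : (A⁻¹, g⁻¹) ∈ RR hp k hs := by
  rw [← Prod.inv_mk]
  exact inv_mem h1

theorem RR_comm {A B : SL k} {g h : ↥(D.group k)} (h1 : (A, g) ∈ RR hp k hs) (h2 : (B, h) ∈ RR hp k hs) :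
    (A * B * A⁻¹ * B⁻¹, g * h * g⁻¹ * h⁻¹) ∈ RR hp k hs :=
  RR_mul hp hs (RR_mul hp hs (RR_mul hp hs h1 h2) (RR_inv hp hs h1)) (RR_inv hp hs h2)

theorem mem_LC_iff {g : ↥(D.group k)} : g ∈ LC hp (k := k) hs ↔ ∃ A, (A, g) ∈ RR hp k hs := by
  rw [mem_LC]
  constructor
  · rintro ⟨A, c, hc, rfl⟩
    exact ⟨A, (mem_RR hp hs).2 (by rw [inv_mul_cancel_left]; exact hc)⟩
  · rintro ⟨A, h⟩
    exact ⟨A, _, (mem_RR hp hs).1 h, by rw [mul_inv_cancel_left]⟩

/-- the first component of `(A, 1) ∈ RR` is central -/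
theorem central_of_RR [IsAlgClosed k] (h2 : (2 : k) ≠ 0) (p : ℕ) [Fact p.Prime] [CharP k p] (hk : LocFin k)
    (he : ∃ r < D.nroots, HMatDiagAll.expo D s r = 1) {A : SL k} (hA : (A, 1) ∈ RR hp k hs) (P : SL k) :
    A * P = P * A := by
  rw [mem_RR, mul_one, ← map_inv] at hA
  have h3 := Subgroup.mem_centralizer_iff.1 hA _ ⟨P⁻¹, rfl⟩
  have h4 : P⁻¹ * A⁻¹ * (A⁻¹ * P⁻¹)⁻¹ = 1 := by
    apply ph_inj hp hs h2 p hk he
    rw [map_mul, map_inv, map_mul, map_mul, h3, mul_inv_cancel]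
  have h5 : P⁻¹ * A⁻¹ = A⁻¹ * P⁻¹ := mul_inv_eq_one.1 h4
  have h6 := congrArg (fun x => x⁻¹) h5
  simp only [mul_inv_rev, inv_inv] at h6
  exact h6

theorem exists_odd [IsAlgClosed k] (h2 : (2 : k) ≠ 0) (p : ℕ) [Fact p.Prime] [CharP k p] (hk : LocFin k)
    (he : ∃ r < D.nroots, HMatDiagAll.expo D s r = 1) {v : ↥(D.group k)} (hv : v ∈ LC hp (k := k) hs) {m : ℕ}
    (hm : Odd m) (hvm : v ^ m = 1) : ∃ A : SL k, A ^ m = 1 ∧ (A, v) ∈ RR hp k hs := by
  obtain ⟨A, hA⟩ := (mem_LC_iff hp hs).1 hv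
  have h1 : (A ^ m, (1 : ↥(D.group k))) ∈ RR hp k hs := by
    have := pow_mem hA m
    rw [Prod.pow_mk, hvm] at this
    exact this
  have h3 := sq_of_central (central_of_RR hp hs h2 p hk he h1)
  refine ⟨A ^ (m + 1), ?_, ?_⟩
  · obtain ⟨j, hj⟩ := hm
    have e : (A ^ (m + 1)) ^ m = ((A ^ m) ^ 2) ^ (j + 1) := by
      rw [← pow_mul, ← pow_mul, ← pow_mul, mul_comm (m + 1) m]
      congr 2
      omega
    rw [e, h3, one_pow]
  · have := pow_mem hA (m + 1)
    rw [Prod.pow_mk, pow_succ v, hvm, one_mul] at this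
    exact this

/-- **The commutator of elements of odd order of `LC`, if it commutes with them, centralises `ph (SL₂)`.** -/
theorem comm_LC [IsAlgClosed k] (h2 : (2 : k) ≠ 0) (p : ℕ) [Fact p.Prime] [CharP k p] (hk : LocFin k)
    (he : ∃ r < D.nroots, HMatDiagAll.expo D s r = 1) {v w : ↥(D.group k)} (hv : v ∈ LC hp (k := k) hs)
    (hw : w ∈ LC hp (k := k) hs) {m : ℕ} (hm : Odd m) (hvm : v ^ m = 1) (hwm : w ^ m = 1)
    (h3 : v * w * v⁻¹ * w⁻¹ * v = v * (v * w * v⁻¹ * w⁻¹)) (h4 : v * w * v⁻¹ * w⁻¹ * w = w * (v * w * v⁻¹ * w⁻¹)) :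
    v * w * v⁻¹ * w⁻¹ ∈ Subgroup.centralizer ((ph hp k hs).range : Set ↥(D.group k)) := by
  obtain ⟨A, hA, hAv⟩ := exists_odd hp hs h2 p hk he hv hm hvm
  obtain ⟨B, hB, hBw⟩ := exists_odd hp hs h2 p hk he hw hm hwm
  have hZ := RR_comm hp hs hAv hBw
  have h5 := RR_comm hp hs hZ hAv
  have h6 := RR_comm hp hs hZ hBw
  set u := v * w * v⁻¹ * w⁻¹ with hu
  have e1 : u * v * u⁻¹ * v⁻¹ = 1 := by rw [h3]; group
  have e2 : u * w * u⁻¹ * w⁻¹ = 1 := by rw [h4]; group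
  rw [e1] at h5
  rw [e2] at h6
  have h7 : A * B = B * A := sl_comm hm hA hB (central_of_RR hp hs h2 p hk he h5) (central_of_RR hp hs h2 p hk he h6)
  have h8 : A * B * A⁻¹ * B⁻¹ = 1 := by rw [h7]; group
  rw [h8, mem_RR, map_one, inv_one, one_mul] at hZ
  exact hZ

end Chev

end Cfsg.Agent.H167.EX
end

-- part: H167/EX/OneB
section
/-!
# Odd subgroups invariant under the toral 2-group lie in the torus (helper167, S4312, exceptional groups)

`xd i d = h_d(i)`, `i ^ 2 = -1`. `oneA` : a solvable subgroup of order prime to `6 p` normalised by all `xd i d`,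
`d ∈ L0`, lies in `TT`.
-/

set_option autoImplicit false
set_option linter.unusedSectionVars false

namespace Cfsg.Agent.H167.EX

open CoxeterSystem Cfsg Cfsg.Lie Cfsg.Lie.ChevalleyDatum
open Cfsg.Agent.ChevalleyStructure Cfsg.Agent.ChevalleyStructure.Elts Cfsg.Agent.ChevalleyStructure.CoxeterGeom
  Cfsg.Agent.ChevalleyStructure.CoxeterGeomTypes Cfsg.Agent.ChevalleyStructure.NPerm
open Cfsg.Agent.Tits.Roots Cfsg.Agent.Tits.Core Cfsg.Agent.Nodes Cfsg.Agent.Nodes.Reps Cfsg.Agent.Nodes.BNOf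
  Cfsg.Agent.Nodes.RGDChev Cfsg.Agent.Nodes.Bruhat Cfsg.Agent.Nodes.NormalForm
open Cfsg.Agent.KFacts.RgdField Cfsg.Agent.KFacts.RgdChevCoord
open Cfsg.Agent.BpExc Cfsg.Agent.BpExc.TorCent Cfsg.Agent.BpExc.TorChev Cfsg.Agent.BpExc.Tow
  Cfsg.Agent.BpExc.TowChev Cfsg.Agent.BpExc.Fr Cfsg.Agent.BpExc.Pair Cfsg.Agent.BpExc.LangFr Cfsg.Agent.GpExc.Field
  Cfsg.Agent.BpExc.TorAll
open Cfsg.Agent.H469.Exc Cfsg.Agent.H469.Exc.SigFr
open Cfsg.Agent.Nodes.RGDFoldSL
open Cfsg.Agent.ChevalleyStructure.SL2Hom (up lo mem_closure_SL2)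
open Module

universe u v

variable {D : ChevalleyDatum} {l : ℕ} {M : CoxeterMatrix (Fin l)} (hp : IsType D l M) {k : Type u} [Field k]

/-! ### the elements `xd i d` -/

/-- `h_d(i)` -/
noncomputable def xd (i : k) (d : ℕ) : ↥(D.group k) := if h : d < D.nroots then ph hp k h (hS i) else 1

theorem xd_lt {i : k} {d : ℕ} (h : d < D.nroots) : xd hp i d = ph hp k h (hS i) := dif_pos h

theorem xd_mem {i : k} (hi : i ≠ 0) (d : ℕ) : xd hp i d ∈ TT D k := by
  unfold xd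
  split_ifs with h
  · exact ph_hS_mem hp h hi
  · exact one_mem _

theorem hS_four {i : k} (hi : i * i = -1) : (hS i : SL k) ^ 4 = 1 := by
  have hi0 : i ≠ 0 := by rintro rfl; rw [mul_zero] at hi; exact one_ne_zero (neg_eq_zero.1 hi.symm)
  have h4 : i ^ 4 = 1 := by
    have : i ^ 4 = (i * i) * (i * i) := by ring
    rw [this, hi]; ring
  obtain ⟨h1, h2, h3, h5⟩ := hS_entries hi0
  have hpow : ∀ m : ℕ, ((hS i : SL k) ^ m).1 0 0 = i ^ m ∧ ((hS i : SL k) ^ m).1 0 1 = 0 ∧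
      ((hS i : SL k) ^ m).1 1 0 = 0 ∧ ((hS i : SL k) ^ m).1 1 1 = (i⁻¹) ^ m := by
    intro m
    induction m with
    | zero =>
      rw [pow_zero, pow_zero, pow_zero]
      exact ⟨rfl, rfl, rfl, rfl⟩
    | succ m ih =>
      obtain ⟨a1, a2, a3, a4⟩ := ih
      rw [pow_succ (hS i : SL k), mul00, mul01, mul10, mul11, h1, h2, h3, h5, a1, a2, a3, a4]
      refine ⟨?_, ?_, ?_, ?_⟩ <;> ring
  obtain ⟨a1, a2, a3, a4⟩ := hpow 4
  refine sl_ext ?_ ?_ ?_ ?_
  · rw [a1, h4]; rfl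
  · rw [a2]; rfl
  · rw [a3]; rfl
  · rw [a4, inv_pow, h4, inv_one]; rfl

theorem xd_four {i : k} (hi : i * i = -1) (d : ℕ) : xd hp i d ^ 4 = 1 := by
  unfold xd
  split_ifs with h
  · rw [← map_pow, hS_four hi, map_one]
  · exact one_pow 4

theorem ch_xd (p : ℕ) [Fact p.Prime] [CharP k p] (hk : LocFin k) {i : k} (hi : i ≠ 0) {d : ℕ} (h : d < D.nroots)
    {r : ℕ} (hr : r < D.nroots) : ch hp (vec D l r) (xd hp i d) = i ^ HMatDiagAll.expo D d r := by
  rw [xd_lt hp h, ch_ph_hS hp h p hk hi hr]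

include hp in
theorem ker_xd (h2 : (2 : k) ≠ 0) {i : k} (hi : i * i = -1) {d : ℕ} (h : d < D.nroots) (hd : two D d = true) :
    finrank k (LinearMap.ker (rho D k (xd hp i d) + 1)) ≤ 2 := by
  rw [xd_lt hp h]
  obtain ⟨P, hP⟩ := wS_conj h2 hi (one_ne_zero (α := k))
  have e : ph hp k h (hS i) = ph hp k h P⁻¹ * ph hp k h (wS 1) * (ph hp k h P⁻¹)⁻¹ := by
    rw [hP, map_mul, map_mul, map_inv]; group
  rw [e]
  exact (ker_conj_le (x := ph hp k h (wS 1)) (g := ph hp k h P⁻¹)).trans (ker_x hp h h2 hi hd one_ne_zero)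

/-! ### the combinatorial conditions -/

/-- the combinatorial conditions for the set `L1` of roots, `g` a map of the roots -/
structure Chk (D : ChevalleyDatum) (L1 : List ℕ) (g : ℕ → ℕ) : Prop where
  odd : ∀ b < D.nroots, ∃ d ∈ L1, HMatDiagAll.expo D d b % 2 ≠ 0
  sep : ∀ b < D.nroots, ∀ b' < D.nroots, (∀ d ∈ L1, HMatDiagAll.expo D d b' % 4 = HMatDiagAll.expo D d b % 4) →
    b' = b ∨ b' = g b
  one : ∀ b < D.nroots, ∃ r < D.nroots, HMatDiagAll.expo D b r = 1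
  lt : ∀ b < D.nroots, g b < D.nroots
  ort : ∀ b < D.nroots, g b = b ∨ (g b ≠ D.neg b ∧ (D.commTerms b (g b)).isEmpty = true ∧
    (D.commTerms (D.neg b) (g b)).isEmpty = true ∧ (D.commTerms b (D.neg (g b))).isEmpty = true ∧
    (D.commTerms (D.neg b) (D.neg (g b))).isEmpty = true)

theorem i_sq {i : k} (hi : i * i = -1) (e : ℤ) : (i ^ e) ^ 2 = (-1) ^ e := by
  rw [← zpow_natCast, ← zpow_mul, mul_comm, zpow_mul]
  congr 1
  have : i ^ ((2 : ℕ) : ℤ) = i * i := by rw [zpow_natCast, pow_two]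
  rw [this, hi]

theorem even_of_sq (h2 : (2 : k) ≠ 0) {i : k} (hi : i * i = -1) {e : ℤ} (h : (i ^ e) ^ 2 = 1) : e % 2 = 0 := by
  rw [i_sq hi] at h
  by_contra hne
  have h1 : e % 2 = 1 := by omega
  rw [Odd.neg_one_zpow (Int.odd_iff.2 h1)] at h
  apply h2
  linear_combination -h

theorem mod_four {i : k} (h2 : (2 : k) ≠ 0) (hi : i * i = -1) {e f : ℤ} (h : i ^ e = i ^ f) : e % 4 = f % 4 := by
  have hi0 : i ≠ 0 := by rintro rfl; rw [mul_zero] at hi; exact one_ne_zero (neg_eq_zero.1 hi.symm)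
  have h1 : i ^ (e - f + 2) = -1 := by
    rw [zpow_add₀ hi0, zpow_sub₀ hi0, h, div_self (zpow_ne_zero _ hi0), one_mul]
    have : i ^ (2 : ℤ) = i * i := by
      rw [show (2 : ℤ) = ((2 : ℕ) : ℤ) by norm_num, zpow_natCast, pow_two]
    rw [this, hi]
  have := zpow_i h2 hi _ h1
  omega

/-! ### membership in `TT` -/

theorem mem_of_pow {G : Type*} [Group G] {K : Subgroup G} {v : G} {m j : ℕ} (hm : Odd m) (hv : v ^ m = 1)
    (h : v ^ 2 ^ j ∈ K) : v ∈ K := by
  have hcop : Nat.Coprime (orderOf v) (2 ^ j) := by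
    refine Nat.Coprime.pow_right j ?_
    refine Nat.Coprime.coprime_dvd_left (orderOf_dvd_of_pow_eq_one hv) ?_
    exact Nat.coprime_two_right.2 hm
  have h5 : v ∈ Subgroup.zpowers (v ^ 2 ^ j) := mem_zpowers_pow_iff.2 hcop.symm
  exact (Subgroup.zpowers_le.2 h) h5

/-- **Elements of odd order commuting with the involutions `h_d(-1)`, `d ∈ L1`, lie in `TT`.** -/
theorem mem_TT_of_sq (h2 : (2 : k) ≠ 0) (p : ℕ) [Fact p.Prime] [CharP k p] (hk : LocFin k) {L1 : List ℕ} {g : ℕ → ℕ}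
    (K : Chk D L1 g) (hL : ∀ d ∈ L1, d < D.nroots) {i : k} (hi : i * i = -1) {v : ↥(D.group k)} {m : ℕ} (hm : Odd m)
    (hvm : v ^ m = 1) (hv : ∀ d ∈ L1, xd hp i d ^ 2 * v = v * xd hp i d ^ 2) : v ∈ TT D k := by
  have hi0 : i ≠ 0 := by rintro rfl; rw [mul_zero] at hi; exact one_ne_zero (neg_eq_zero.1 hi.symm)
  obtain ⟨j, hj⟩ := pow_mem_set hp hk p (S := {x | ∃ d ∈ L1, x = xd hp i d ^ 2}) (by
    rintro _ ⟨d, -, rfl⟩
    exact pow_mem (xd_mem hp hi0 d) 2) Nat.prime_two (by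
    rintro _ ⟨d, -, rfl⟩
    refine ⟨1, ?_⟩
    rw [pow_one, ← pow_mul]
    exact xd_four hp hi d) (g := v) (by
    rintro _ ⟨d, hd, rfl⟩
    exact (hv d hd).symm)
  refine mem_of_pow hm hvm ((sup_le (RGD.Sup_le fun a ha => ?_) le_rfl : _ ≤ TT D k) hj)
  exfalso
  obtain ⟨b, hb, rfl⟩ := (isRoot_iff hp M.toCoxeterSystem a).1 ha.1
  obtain ⟨d, hd, hodd⟩ := K.odd b hb
  have h3 := ha.2 _ ⟨d, hd, rfl⟩
  rw [ch_pow hp p hk hb (xd_mem hp hi0 d), ch_xd hp p hk hi0 (hL d hd) hb] at h3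
  exact hodd (even_of_sq h2 hi h3)

/-! ### products of strongly orthogonal root subgroups -/

theorem LC_norm {s : ℕ} (hs : s < D.nroots) {t : ↥(D.group k)} (ht : t ∈ LC hp (k := k) hs) {y : ↥(D.group k)}
    (hy : y ∈ (ph hp k hs).range) : t * y * t⁻¹ ∈ (ph hp k hs).range := by
  obtain ⟨A, c, hc, rfl⟩ := (mem_LC hp hs).1 ht
  have h1 := Subgroup.mem_centralizer_iff.1 hc y hy
  have e : ph hp k hs A * c * y * (ph hp k hs A * c)⁻¹ = ph hp k hs A * y * (ph hp k hs A)⁻¹ := by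
    calc ph hp k hs A * c * y * (ph hp k hs A * c)⁻¹ = ph hp k hs A * (c * y) * c⁻¹ * (ph hp k hs A)⁻¹ := by group
      _ = _ := by rw [← h1]; group
  rw [e]
  exact mul_mem (mul_mem ⟨A, rfl⟩ hy) (inv_mem ⟨A, rfl⟩)

theorem ph_le_LC {s : ℕ} (hs : s < D.nroots) : (ph hp k hs).range ≤ LC hp (k := k) hs := by
  rintro _ ⟨A, rfl⟩
  exact (mem_LC hp hs).2 ⟨A, 1, one_mem _, by rw [mul_one]⟩

theorem cent_le_LC {s : ℕ} (hs : s < D.nroots) :
    Subgroup.centralizer ((ph hp k hs).range : Set ↥(D.group k)) ≤ LC hp (k := k) hs := by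
  intro c hc
  exact (mem_LC hp hs).2 ⟨1, c, hc, by rw [map_one, one_mul]⟩

/-- strongly orthogonal roots: the subgroups commute -/
theorem ph_comm {b c : ℕ} (hb : b < D.nroots) (hc : c < D.nroots) (h1 : c ≠ b) (h2 : c ≠ D.neg b)
    (h3 : (D.commTerms b c).isEmpty = true) (h4 : (D.commTerms (D.neg b) c).isEmpty = true)
    (h5 : (D.commTerms b (D.neg c)).isEmpty = true) (h6 : (D.commTerms (D.neg b) (D.neg c)).isEmpty = true) :
    (ph hp k hc).range ≤ Subgroup.centralizer ((ph hp k hb).range : Set ↥(D.group k)) := by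
  have hnc := neg_lt hp.inList hc
  have hnb := neg_lt hp.inList hb
  have e1 : D.neg c ≠ b := by
    intro e
    apply h2
    rw [← e, neg_neg_eq hp hc]
  have e2 : D.neg c ≠ D.neg b := by
    intro e
    apply h1
    rw [← neg_neg_eq hp hc, e, neg_neg_eq hp hb]
  rintro _ ⟨A, rfl⟩
  have h7 : A ∈ (Subgroup.centralizer ((ph hp k hb).range : Set ↥(D.group k))).comap (ph hp k hc) := by
    refine (Subgroup.closure_le _).2 ?_ (mem_closure_SL2 A)
    rintro _ (⟨t, rfl⟩ | ⟨t, rfl⟩)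
    · show ph hp k hc (up t) ∈ Subgroup.centralizer ((ph hp k hb).range : Set ↥(D.group k))
      rw [ph_up]
      refine mem_cent hp hb (fun u => ?_) (fun u => ?_)
      · exact Subtype.ext (KFacts.Mult.Chev.commute_of_empty hp hb hc h1 h2 h3 u t)
      · exact Subtype.ext (KFacts.Mult.Chev.commute_of_empty hp hnb hc h2
          (by rw [neg_neg_eq hp hb]; exact h1) h4 u t)
    · show ph hp k hc (lo t) ∈ Subgroup.centralizer ((ph hp k hb).range : Set ↥(D.group k))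
      rw [ph_lo]
      refine mem_cent hp hb (fun u => ?_) (fun u => ?_)
      · exact Subtype.ext (KFacts.Mult.Chev.commute_of_empty hp hb hnc e1 e2 h5 u t)
      · exact Subtype.ext (KFacts.Mult.Chev.commute_of_empty hp hnb hnc e2
          (by rw [neg_neg_eq hp hb]; exact e1) h6 u t)
  exact h7

theorem sq_of_cent [IsAlgClosed k] (h2 : (2 : k) ≠ 0) (p : ℕ) [Fact p.Prime] [CharP k p] (hk : LocFin k)
    {L1 : List ℕ} {g : ℕ → ℕ} (K : Chk D L1 g) {b : ℕ} (hb : b < D.nroots) {x : ↥(D.group k)}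
    (hx : x ∈ (ph hp k hb).range ⊔ (ph hp k (K.lt b hb)).range)
    (h3 : x ∈ Subgroup.centralizer ((ph hp k hb).range : Set ↥(D.group k)))
    (h4 : x ∈ Subgroup.centralizer ((ph hp k (K.lt b hb)).range : Set ↥(D.group k))) : x ^ 2 = 1 := by
  have one : ∀ {s : ℕ} (hs : s < D.nroots) (Z : SL k),
      ph hp k hs Z ∈ Subgroup.centralizer ((ph hp k hs).range : Set ↥(D.group k)) → ph hp k hs Z ^ 2 = 1 := by
    intro s hs Z hZ
    have h5 : (Z, (1 : ↥(D.group k))) ∈ RR hp k hs := by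
      rw [mem_RR, mul_one]
      exact inv_mem hZ
    rw [← map_pow, sq_of_central (central_of_RR hp hs h2 p hk (K.one s hs) h5), map_one]
  have single : ∀ {s : ℕ} (hs : s < D.nroots), x ∈ (ph hp k hs).range →
      x ∈ Subgroup.centralizer ((ph hp k hs).range : Set ↥(D.group k)) → x ^ 2 = 1 := by
    rintro s hs ⟨Z, hZ⟩ h5
    rw [← hZ] at h5 ⊢
    exact one hs Z h5
  rcases K.ort b hb with h | ⟨e2, e3, e4, e5, e6⟩
  · have h5 : (ph hp k hb).range ⊔ (ph hp k (K.lt b hb)).range = (ph hp k hb).range := by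
      have : ∀ c (hc : c < D.nroots), c = b → (ph hp k hb).range ⊔ (ph hp k hc).range = (ph hp k hb).range := by
        rintro c hc rfl
        exact sup_idem _
      exact this _ _ h
    rw [h5] at hx
    exact single hb hx h3
  · by_cases e1 : g b = b
    · have h5 : (ph hp k hb).range ⊔ (ph hp k (K.lt b hb)).range = (ph hp k hb).range := by
        have : ∀ c (hc : c < D.nroots), c = b → (ph hp k hb).range ⊔ (ph hp k hc).range = (ph hp k hb).range := by
          rintro c hc rfl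
          exact sup_idem _
        exact this _ _ e1
      rw [h5] at hx
      exact single hb hx h3
    have hcomm := ph_comm hp (k := k) hb (K.lt b hb) e1 e2 e3 e4 e5 e6
    have hnorm : (ph hp k (K.lt b hb)).range ≤ Subgroup.normalizer ((ph hp k hb).range : Set ↥(D.group k)) :=
      hcomm.trans (Subgroup.centralizer_le_normalizer _)
    have h5 : x ∈ (((ph hp k hb).range ⊔ (ph hp k (K.lt b hb)).range : Subgroup ↥(D.group k)) :
        Set ↥(D.group k)) := hx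
    rw [Subgroup.coe_mul_of_right_le_normalizer_left _ _ hnorm] at h5
    obtain ⟨_, ⟨Z, rfl⟩, _, ⟨Z', rfl⟩, h6⟩ := h5
    have h6' : ph hp k hb Z * ph hp k (K.lt b hb) Z' = x := h6
    have h7 : ph hp k (K.lt b hb) Z' ∈ Subgroup.centralizer ((ph hp k hb).range : Set ↥(D.group k)) :=
      hcomm ⟨Z', rfl⟩
    have h8 : ph hp k hb Z ∈ Subgroup.centralizer ((ph hp k (K.lt b hb)).range : Set ↥(D.group k)) := by
      rw [Subgroup.mem_centralizer_iff]
      intro y hy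
      exact (Subgroup.mem_centralizer_iff.1 (hcomm hy) _ ⟨Z, rfl⟩).symm
    have h9 : ph hp k hb Z ∈ Subgroup.centralizer ((ph hp k hb).range : Set ↥(D.group k)) := by
      have e : ph hp k hb Z = x * (ph hp k (K.lt b hb) Z')⁻¹ := by rw [← h6', mul_inv_cancel_right]
      rw [e]
      exact mul_mem h3 (inv_mem h7)
    have h10 : ph hp k (K.lt b hb) Z' ∈ Subgroup.centralizer ((ph hp k (K.lt b hb)).range : Set ↥(D.group k)) := by
      have e : ph hp k (K.lt b hb) Z' = (ph hp k hb Z)⁻¹ * x := by rw [← h6', inv_mul_cancel_left]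
      rw [e]
      exact mul_mem (inv_mem h8) h4
    have hc : Commute (ph hp k hb Z) (ph hp k (K.lt b hb) Z') := Subgroup.mem_centralizer_iff.1 h7 _ ⟨Z, rfl⟩
    rw [← h6', hc.mul_pow, one hb Z h9, one _ Z' h10, mul_one]

theorem comm_mem_of_norm {G : Type*} [Group G] {T Q : Subgroup G} (hT : ∀ s ∈ T, ∀ t ∈ T, s * t = t * s)
    (hQ : ∀ t ∈ T, ∀ x ∈ Q, t * x * t⁻¹ ∈ Q) {v w : G} (hv : v ∈ Q ⊔ T) (hw : w ∈ Q ⊔ T) :
    v * w * v⁻¹ * w⁻¹ ∈ Q := by
  have hn : T ≤ Subgroup.normalizer (Q : Set G) := by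
    intro t ht
    rw [Subgroup.mem_normalizer_iff]
    intro x
    constructor
    · exact hQ t ht x
    · intro hx
      have := hQ t⁻¹ (inv_mem ht) _ hx
      have e : t⁻¹ * (t * x * t⁻¹) * t⁻¹⁻¹ = x := by group
      rwa [e] at this
  have h1 : ∀ x ∈ Q ⊔ T, ∃ q ∈ Q, ∃ t ∈ T, x = q * t := by
    intro x hx
    have hx' : x ∈ ((Q ⊔ T : Subgroup G) : Set G) := hx
    rw [Subgroup.coe_mul_of_right_le_normalizer_left _ _ hn] at hx'
    obtain ⟨q, hq, t, ht, rfl⟩ := hx'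
    exact ⟨q, hq, t, ht, rfl⟩
  obtain ⟨q, hq, t, ht, rfl⟩ := h1 v hv
  obtain ⟨q', hq', t', ht', rfl⟩ := h1 w hw
  have e : q * t * (q' * t') * (q * t)⁻¹ * (q' * t')⁻¹ = q * (t * q' * t⁻¹) * (t' * q⁻¹ * t'⁻¹) * q'⁻¹ := by
    calc q * t * (q' * t') * (q * t)⁻¹ * (q' * t')⁻¹ = q * t * q' * (t' * t⁻¹) * q⁻¹ * t'⁻¹ * q'⁻¹ := by group
      _ = q * t * q' * (t⁻¹ * t') * q⁻¹ * t'⁻¹ * q'⁻¹ := by rw [hT t' ht' t⁻¹ (inv_mem ht)]
      _ = _ := by group
  rw [e]
  exact mul_mem (mul_mem (mul_mem hq (hQ t ht q' hq')) (hQ t' ht' _ (inv_mem hq))) (inv_mem hq')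

/-! ### the main theorem -/

/-- the roots trivial on the elements agreeing with the powers of `xd i d0` -/
theorem roots_S (h2 : (2 : k) ≠ 0) (p : ℕ) [Fact p.Prime] [CharP k p] (hk : LocFin k) {L0 L1 : List ℕ} {g : ℕ → ℕ}
    (K : Chk D L1 g) (hL0 : ∀ d ∈ L0, d < D.nroots) (hL1 : ∀ d ∈ L1, d ∈ L0) {i : k} (hi : i * i = -1) {d0 : ℕ}
    (hd0 : d0 ∈ L0) {j : ℕ → ℕ} {b b' : ℕ} (hb : b < D.nroots) (hb' : b' < D.nroots)
    (h : ∀ d ∈ L0, ch hp (vec D l b) (xd hp i d * (xd hp i d0 ^ j d)⁻¹) = 1)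
    (h' : ∀ d ∈ L0, ch hp (vec D l b') (xd hp i d * (xd hp i d0 ^ j d)⁻¹) = 1) :
    b' = b ∨ b' = D.neg b ∨ b' = g b ∨ b' = D.neg (g b) := by
  have hi0 : i ≠ 0 := by rintro rfl; rw [mul_zero] at hi; exact one_ne_zero (neg_eq_zero.1 hi.symm)
  have key : ∀ {c : ℕ}, c < D.nroots → (∀ d ∈ L0, ch hp (vec D l c) (xd hp i d * (xd hp i d0 ^ j d)⁻¹) = 1) →
      ∀ d ∈ L0, i ^ HMatDiagAll.expo D d c = (i ^ HMatDiagAll.expo D d0 c) ^ j d := by
    intro c hc hh d hd
    have h3 := hh d hd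
    have hm := pow_mem (xd_mem (D := D) hp hi0 d0) (j d)
    rw [ch_mul hp p hk hc (xd_mem hp hi0 d) (inv_mem hm), ch_xd hp p hk hi0 (hL0 d hd) hc] at h3
    have h4 : ch hp (vec D l c) ((xd hp i d0 ^ j d)⁻¹) * (i ^ HMatDiagAll.expo D d0 c) ^ j d = 1 := by
      rw [← ch_xd hp p hk hi0 (hL0 d0 hd0) hc, ← ch_pow hp p hk hc (xd_mem hp hi0 d0),
        ← ch_mul hp p hk hc (inv_mem hm) hm, inv_mul_cancel, ch_one hp p hk hc]
    have h5 : ch hp (vec D l c) ((xd hp i d0 ^ j d)⁻¹) ≠ 0 := left_ne_zero_of_mul_eq_one h4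
    exact mul_right_cancel₀ h5 (by rw [h3, mul_comm, h4])
  have oddk : ∀ {c : ℕ}, c < D.nroots → (∀ d ∈ L0, ch hp (vec D l c) (xd hp i d * (xd hp i d0 ^ j d)⁻¹) = 1) →
      (i ^ HMatDiagAll.expo D d0 c) ^ 2 = -1 := by
    intro c hc hh
    rw [i_sq hi]
    rcases Int.even_or_odd (HMatDiagAll.expo D d0 c) with he | he
    · exfalso
      obtain ⟨d, hd, hodd⟩ := K.odd c hc
      apply hodd
      refine even_of_sq h2 hi ?_
      rw [key hc hh d (hL1 d hd), ← pow_mul, mul_comm (j d) 2, pow_mul, i_sq hi, Even.neg_one_zpow he, one_pow]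
    · exact Odd.neg_one_zpow he
  have sepk : ∀ {c c' : ℕ}, c < D.nroots → c' < D.nroots →
      (∀ d ∈ L0, ch hp (vec D l c) (xd hp i d * (xd hp i d0 ^ j d)⁻¹) = 1) →
      (∀ d ∈ L0, ch hp (vec D l c') (xd hp i d * (xd hp i d0 ^ j d)⁻¹) = 1) →
      i ^ HMatDiagAll.expo D d0 c' = i ^ HMatDiagAll.expo D d0 c → c' = c ∨ c' = g c := by
    intro c c' hc hc' hh hh' he
    refine K.sep c hc c' hc' fun d hd => mod_four h2 hi ?_
    rw [key hc hh d (hL1 d hd), key hc' hh' d (hL1 d hd), he]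
  have h3 := oddk hb h
  have h4 := oddk hb' h'
  have h5 : (i ^ HMatDiagAll.expo D d0 b' - i ^ HMatDiagAll.expo D d0 b) *
      (i ^ HMatDiagAll.expo D d0 b' + i ^ HMatDiagAll.expo D d0 b) = 0 := by
    linear_combination h4 - h3
  rcases mul_eq_zero.1 h5 with h6 | h6
  · rcases sepk hb hb' h h' (sub_eq_zero.1 h6) with h7 | h7
    · exact Or.inl h7
    · exact Or.inr (Or.inr (Or.inl h7))
  · -- use `-b'`
    have hnb := neg_lt hp.inList hb'
    have hT : ∀ d ∈ L0, xd hp i d * (xd hp i d0 ^ j d)⁻¹ ∈ TT D k := fun d _ =>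
      mul_mem (xd_mem hp hi0 d) (inv_mem (pow_mem (xd_mem hp hi0 d0) (j d)))
    have h7 : ∀ d ∈ L0, ch hp (vec D l (D.neg b')) (xd hp i d * (xd hp i d0 ^ j d)⁻¹) = 1 := fun d hd => by
      rw [ch_neg hp hb' p hk (hT d hd), h' d hd, inv_one]
    have h8 : i ^ HMatDiagAll.expo D d0 (D.neg b') = i ^ HMatDiagAll.expo D d0 b := by
      rw [← ch_xd hp p hk hi0 (hL0 d0 hd0) hnb, ch_neg hp hb' p hk (xd_mem hp hi0 d0),
        ch_xd hp p hk hi0 (hL0 d0 hd0) hb']
      refine inv_eq_of_mul_eq_one_right ?_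
      linear_combination (i ^ HMatDiagAll.expo D d0 b') * h6 - h4
    rcases sepk hb hnb h h7 h8 with h9 | h9
    · right; left
      rw [← h9, neg_neg_eq hp hb']
    · right; right; right
      rw [← h9, neg_neg_eq hp hb']

/-- **A solvable group of order prime to `6 p` normalised by the `h_d(i)`, `d ∈ L0`, lies in the torus.** -/
theorem oneA [IsAlgClosed k] (h2 : (2 : k) ≠ 0) (p : ℕ) [Fact p.Prime] [CharP k p] (hk : LocFin k) (hA : HAlg p k)
    (hc : cnt D l = true) {L0 L1 : List ℕ} {g : ℕ → ℕ} (K : Chk D L1 g) (hL0 : ∀ d ∈ L0, d < D.nroots)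
    (hL1 : ∀ d ∈ L1, d ∈ L0) (htwo : ∀ d ∈ L0, two D d = true) {i : k} (hi : i * i = -1) (n : ℕ) :
    ∀ R : Subgroup ↥(D.group k), Nat.card R = n → Finite R → Group.IsSolvable R → (Nat.card R).Coprime 6 →
      (Nat.card R).Coprime p → (∀ d ∈ L0, ∀ v ∈ R, xd hp i d * v * (xd hp i d)⁻¹ ∈ R) → R ≤ TT D k := by
  have hi0 : i ≠ 0 := by rintro rfl; rw [mul_zero] at hi; exact one_ne_zero (neg_eq_zero.1 hi.symm)
  induction n using Nat.strong_induction_on with
  | _ n ih =>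
    intro R hRn hf hsol h6 hpR hinv
    by_contra hRT
    have hodd : Odd (Nat.card R) := by
      rw [Nat.odd_iff]
      by_contra h
      have h3 : 2 ∣ Nat.card R := Nat.dvd_of_mod_eq_zero (by omega)
      have := Nat.dvd_gcd h3 (show 2 ∣ 6 by norm_num)
      rw [h6] at this
      exact absurd this (by norm_num)
    have hpow : ∀ v ∈ R, v ^ Nat.card R = 1 := by
      intro v hv
      have := congrArg Subtype.val (pow_card_eq_one' (x := (⟨v, hv⟩ : R)))
      rwa [Subgroup.coe_pow] at this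
    set A : Subgroup ↥(D.group k) := Subgroup.closure {x | ∃ d ∈ L0, x = xd hp i d} with hAdef
    have hxA : ∀ d ∈ L0, xd hp i d ∈ A := fun d hd => Subgroup.subset_closure ⟨d, hd, rfl⟩
    have hnA : ∀ R0 : Subgroup ↥(D.group k), Finite R0 → (∀ d ∈ L0, ∀ v ∈ R0, xd hp i d * v * (xd hp i d)⁻¹ ∈ R0) →
        ∀ a ∈ A, ∀ v ∈ R0, a * v * a⁻¹ ∈ R0 := by
      intro R0 hf0 h3 a ha v hv
      have h4 : A ≤ Subgroup.normalizer (R0 : Set ↥(D.group k)) := by
        refine (Subgroup.closure_le _).2 ?_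
        rintro _ ⟨d, hd, rfl⟩
        have : Finite (R0 : Set ↥(D.group k)) := hf0
        exact Subgroup.mem_normalizer_fintype (fun v hv => h3 d hd v hv)
      exact (Subgroup.mem_normalizer_iff.1 (h4 ha) v).1 hv
    have H : Red.Hyp (TT D k) A R :=
      { comm := TT_comm hp
        le := (Subgroup.closure_le _).2 (by
          rintro _ ⟨d, -, rfl⟩
          exact xd_mem hp hi0 d)
        fin := hf
        odd := hodd
        sol := hsol
        norm := hnA R hf hinv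
        min := fun R0 hR0 hne hR0A => by
          have hf0 : Finite R0 := Finite.of_injective _ (Subgroup.inclusion_injective hR0)
          have hdvd : Nat.card R0 ∣ Nat.card R := Subgroup.card_dvd_of_le hR0
          have hlt : Nat.card R0 < n := by
            rw [← hRn]
            refine lt_of_le_of_ne (Nat.le_of_dvd Nat.card_pos hdvd) fun h => hne ?_
            exact Subgroup.eq_of_le_of_card_ge hR0 h.ge
          exact ih _ hlt R0 rfl hf0 (Group.isSolvable_of_isSolvable_injective (Subgroup.inclusion_injective hR0))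
            (Nat.Coprime.coprime_dvd_left hdvd h6) (Nat.Coprime.coprime_dvd_left hdvd hpR)
            (fun d hd => hR0A _ (hxA d hd))
        not_le := hRT }
    -- some `z = y ^ 2` does not centralise `R`
    obtain ⟨d0, hd0, hyR⟩ : ∃ d0 ∈ L0, ¬ ∀ v ∈ R, xd hp i d0 ^ 2 * v = v * xd hp i d0 ^ 2 := by
      by_contra hcon
      push Not at hcon
      apply hRT
      intro v hv
      exact mem_TT_of_sq hp h2 p hk K (fun d hd => hL0 d (hL1 d hd)) hi hodd (hpow v hv)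
        fun d hd => hcon d (hL1 d hd) v hv
    have hyA := hxA d0 hd0
    have hy4 := xd_four hp hi d0
    have hj : ∀ d : ℕ, ∃ j : ℕ, d ∈ L0 → ∀ v ∈ R, xd hp i d * (xd hp i d0 ^ j)⁻¹ * v =
        v * (xd hp i d * (xd hp i d0 ^ j)⁻¹) := by
      intro d
      by_cases hd : d ∈ L0
      · obtain ⟨j, hj⟩ := Red.exists_pow H hyA hy4 hyR (hxA d hd) (xd_four hp hi d)
        exact ⟨j, fun _ => hj⟩
      · exact ⟨0, fun h => absurd h hd⟩
    choose j hj using hj
    have hST : ∀ d ∈ L0, xd hp i d * (xd hp i d0 ^ j d)⁻¹ ∈ TT D k := fun d _ =>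
      mul_mem (xd_mem hp hi0 d) (inv_mem (pow_mem (xd_mem hp hi0 d0) (j d)))
    have hpm : ∀ v ∈ R, ∃ m : ℕ, v ^ 2 ^ m ∈ SetC.MMs M.toCoxeterSystem hp.isCartan (XX D l k) (ch hp)
        {x | ∃ d ∈ L0, x = xd hp i d * (xd hp i d0 ^ j d)⁻¹} ⊔ TT D k := by
      intro v hv
      refine pow_mem_set hp hk p ?_ Nat.prime_two ?_ ?_
      · rintro _ ⟨d, hd, rfl⟩
        exact hST d hd
      · rintro _ ⟨d, hd, rfl⟩
        refine ⟨2, ?_⟩
        have hcm : Commute (xd hp i d) ((xd hp i d0 ^ j d)⁻¹) :=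
          TT_comm hp _ (xd_mem hp hi0 d) _ (inv_mem (pow_mem (xd_mem hp hi0 d0) (j d)))
        rw [show 2 ^ 2 = 4 by norm_num, hcm.mul_pow, xd_four hp hi, one_mul, inv_pow, ← pow_mul, mul_comm, pow_mul,
          xd_four hp hi, one_pow, inv_one]
      · rintro _ ⟨d, hd, rfl⟩
        exact (hj d hd v hv).symm
    -- a root
    obtain ⟨b, hb, hbS⟩ : ∃ b < D.nroots, ∀ d ∈ L0, ch hp (vec D l b) (xd hp i d * (xd hp i d0 ^ j d)⁻¹) = 1 := by
      by_contra hcon
      apply hRT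
      intro v hv
      obtain ⟨m, hm⟩ := hpm v hv
      refine mem_of_pow hodd (hpow v hv) ((sup_le (RGD.Sup_le fun a ha => ?_) le_rfl : _ ≤ TT D k) hm)
      exfalso
      obtain ⟨b, hb, rfl⟩ := (isRoot_iff hp M.toCoxeterSystem a).1 ha.1
      exact hcon ⟨b, hb, fun d hd => ha.2 _ ⟨d, hd, rfl⟩⟩
    set c := g b with hcdef
    have hcb : c < D.nroots := K.lt b hb
    set Q : Subgroup ↥(D.group k) := (ph hp k hb).range ⊔ (ph hp k hcb).range with hQ
    have hX1 : ∀ {s : ℕ} (hs : s < D.nroots), XX D l k (vec D l s) ≤ (ph hp k hs).range := by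
      intro s hs y hy
      obtain ⟨t, ht⟩ := (LangThm.mem_XX_vec hp hs).1 hy
      exact ⟨up t, by rw [ph_up]; exact (Subtype.ext ht : y = xs hp.inList s t).symm⟩
    have hX2 : ∀ {s : ℕ} (hs : s < D.nroots), XX D l k (vec D l (D.neg s)) ≤ (ph hp k hs).range := by
      intro s hs y hy
      obtain ⟨t, ht⟩ := (LangThm.mem_XX_vec hp (neg_lt hp.inList hs)).1 hy
      exact ⟨lo t, by rw [ph_lo]; exact (Subtype.ext ht : y = xs hp.inList (D.neg s) t).symm⟩
    have hMQ : SetC.MMs M.toCoxeterSystem hp.isCartan (XX D l k) (ch hp)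
        {x | ∃ d ∈ L0, x = xd hp i d * (xd hp i d0 ^ j d)⁻¹} ≤ Q := by
      refine RGD.Sup_le fun a ha => ?_
      obtain ⟨b', hb', rfl⟩ := (isRoot_iff hp M.toCoxeterSystem a).1 ha.1
      rcases roots_S hp h2 p hk K hL0 hL1 hi hd0 hb hb' hbS (fun d hd => ha.2 _ ⟨d, hd, rfl⟩) with e | e | e | e
      · rw [e]; exact (hX1 hb).trans le_sup_left
      · rw [e]; exact (hX2 hb).trans le_sup_left
      · rw [e]; exact (hX1 hcb).trans le_sup_right
      · rw [e]; exact (hX2 hcb).trans le_sup_right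
    have hRQ : ∀ v ∈ R, v ∈ Q ⊔ TT D k := by
      intro v hv
      obtain ⟨m, hm⟩ := hpm v hv
      exact mem_of_pow hodd (hpow v hv) ((sup_le_sup_right hMQ _ : _ ≤ _) hm)
    have hQ1 : Q ≤ LC hp (k := k) hb ∧ Q ≤ LC hp (k := k) hcb := by
      rcases K.ort b hb with h | ⟨e2, e3, e4, e5, e6⟩
      · have : ∀ c' (hc' : c' < D.nroots), c' = b → (ph hp k hb).range ⊔ (ph hp k hc').range ≤ LC hp (k := k) hb ∧
            (ph hp k hb).range ⊔ (ph hp k hc').range ≤ LC hp (k := k) hc' := by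
          rintro c' hc' rfl
          exact ⟨sup_le (ph_le_LC hp hb) (ph_le_LC hp hb), sup_le (ph_le_LC hp hb) (ph_le_LC hp hb)⟩
        exact this c hcb h
      · by_cases e1 : g b = b
        · have : ∀ c' (hc' : c' < D.nroots), c' = b → (ph hp k hb).range ⊔ (ph hp k hc').range ≤ LC hp (k := k) hb ∧
              (ph hp k hb).range ⊔ (ph hp k hc').range ≤ LC hp (k := k) hc' := by
            rintro c' hc' rfl
            exact ⟨sup_le (ph_le_LC hp hb) (ph_le_LC hp hb), sup_le (ph_le_LC hp hb) (ph_le_LC hp hb)⟩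
          exact this c hcb e1
        · have hcomm := ph_comm hp (k := k) hb hcb e1 e2 e3 e4 e5 e6
          have hcomm' : (ph hp k hb).range ≤ Subgroup.centralizer ((ph hp k hcb).range : Set ↥(D.group k)) := by
            intro x hx
            rw [Subgroup.mem_centralizer_iff]
            intro y hy
            exact (Subgroup.mem_centralizer_iff.1 (hcomm hy) _ hx).symm
          exact ⟨sup_le (ph_le_LC hp hb) (hcomm.trans (cent_le_LC hp hb)),
            sup_le (hcomm'.trans (cent_le_LC hp hcb)) (ph_le_LC hp hcb)⟩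
    have hT1 := TT_le_LC hp hb p hk
    have hT2 := TT_le_LC hp hcb p hk
    have hQn : ∀ t ∈ TT D k, ∀ x ∈ Q, t * x * t⁻¹ ∈ Q := by
      intro t ht x hx
      have h5 : Q ≤ Q.comap (MulAut.conj t).toMonoidHom := by
        refine sup_le (fun y hy => ?_) (fun y hy => ?_)
        · exact Subgroup.mem_sup_left (LC_norm hp hb (hT1 ht) hy)
        · exact Subgroup.mem_sup_right (LC_norm hp hcb (hT2 ht) hy)
      exact h5 hx
    -- `R` is commutative
    have hcomm : ∀ v ∈ R, ∀ w ∈ R, v * w = w * v := by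
      intro v hv w hw
      have hu : v * w * v⁻¹ * w⁻¹ ∈ R := mul_mem (mul_mem (mul_mem hv hw) (inv_mem hv)) (inv_mem hw)
      have huT := Red.comm_mem H hv hw
      have hu1 := Red.central H hyA hy4 hyR hu huT hv
      have hu2 := Red.central H hyA hy4 hyR hu huT hw
      have hvQ := hRQ v hv
      have hwQ := hRQ w hw
      have hvw1 := comm_LC hp hb h2 p hk (K.one b hb) ((sup_le hQ1.1 hT1 : _ ≤ LC hp (k := k) hb) hvQ)
        ((sup_le hQ1.1 hT1 : _ ≤ LC hp (k := k) hb) hwQ) hodd (hpow v hv) (hpow w hw) hu1.symm hu2.symm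
      have hvw2 := comm_LC hp hcb h2 p hk (K.one c hcb) ((sup_le hQ1.2 hT2 : _ ≤ LC hp (k := k) hcb) hvQ)
        ((sup_le hQ1.2 hT2 : _ ≤ LC hp (k := k) hcb) hwQ) hodd (hpow v hv) (hpow w hw) hu1.symm hu2.symm
      have huQ := comm_mem_of_norm (TT_comm hp) hQn hvQ hwQ
      have hu3 := sq_of_cent hp h2 p hk K hb huQ hvw1 hvw2
      have hu4 := eq_one_of_odd hu3 hodd (hpow _ hu)
      have e : v * w = v * w * v⁻¹ * w⁻¹ * (w * v) := by group
      rw [e, hu4, one_mul]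
    apply hyR
    intro v hv
    exact sq_comm hp p hk hA hc hy4 (ker_xd hp h2 hi (hL0 d0 hd0) (htwo d0 hd0)) hcomm (hinv d0 hd0) hpow h6 hpR hv

end Cfsg.Agent.H167.EX
end

private theorem dce_282afc40b3d0 : _root_.True := by
  try have : _root_.True := by simp only [_root_.Cfsg.Agent.H167.EX.ph.congr_simp]
  try have : _root_.True := by simp only [_root_.Cfsg.Agent.H167.EX.xd.congr_simp]
  exact _root_.True.intro
end
end
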